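import Groth.Agent.SmoothBCLib.AlgFields
import Groth.Agent.S7130
import Mathlib.FieldTheory.IsAlgClosed.AlgebraicClosure

/-!
# Covers with algebraically closed local rings, algebraic over the residue fields

An affine scheme receives a surjection from an affine scheme all of whose local rings are algebraically closed
fields, such that the extensions of residue fields are algebraic: the integral closure of the smallest absolutely
flat subring of the product of the residue fields in the product of their algebraic closures.
-/

set_option autoImplicit false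
set_option linter.style.haveILetI false
set_option backward.isDefEq.respectTransparency false
set_option backward.isDefEq.respectTransparency.types false
set_option maxHeartbeats 1000000
set_option synthInstance.maxHeartbeats 400000

universe u

open CategoryTheory AlgebraicGeometry Polynomial

noncomputable section

namespace Groth.Agent.AcycCritLib

variable (A : Type u) [CommRing A]

/-- The algebraic closures of the residue fields. -/
abbrev Kbar (p : PrimeSpectrum A) : Type u := AlgebraicClosure p.asIdeal.ResidueField

/-- The map to the product of the algebraic closures. -/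
def toProd : A →+* (∀ p : PrimeSpectrum A, Kbar A p) :=
  Pi.ringHom fun p => (algebraMap p.asIdeal.ResidueField (Kbar A p)).comp (algebraMap A p.asIdeal.ResidueField)

/-- The smallest subring containing the image of `A` and closed under pointwise inverses. -/
def invClosure : Subring (∀ p : PrimeSpectrum A, Kbar A p) :=
  sInf {S | Set.range (toProd A) ⊆ S ∧ ∀ x ∈ S, x⁻¹ ∈ S}

theorem toProd_mem (a : A) : toProd A a ∈ invClosure A :=
  Subring.mem_sInf.2 fun _ hS => hS.1 ⟨a, rfl⟩

theorem inv_mem {x : ∀ p : PrimeSpectrum A, Kbar A p} (hx : x ∈ invClosure A) : x⁻¹ ∈ invClosure A :=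
  Subring.mem_sInf.2 fun S hS => hS.2 x (Subring.mem_sInf.1 hx S hS)

/-- The map to the subring. -/
def toInv : A →+* invClosure A := (toProd A).codRestrict (invClosure A) (toProd_mem A)

/-- The pointwise inverse. -/
def pinv (x : invClosure A) : invClosure A := ⟨x.1⁻¹, inv_mem A x.2⟩

theorem mul_pinv_mul (x : invClosure A) : x * pinv A x * x = x :=
  Subtype.ext (funext fun p => mul_inv_mul_cancel (x.1 p))

theorem pinv_mul_pinv (x : invClosure A) : pinv A x * x * pinv A x = pinv A x :=
  Subtype.ext (funext fun p => by
    show (x.1 p)⁻¹ * x.1 p * (x.1 p)⁻¹ = (x.1 p)⁻¹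
    simpa using mul_inv_mul_cancel (x.1 p)⁻¹)

instance isMaximal_invClosure (Q : Ideal (invClosure A)) [Q.IsPrime] : Q.IsMaximal := by
  refine Ideal.Quotient.maximal_of_isField _ ⟨exists_pair_ne _, mul_comm, fun {z} hz => ?_⟩
  obtain ⟨x, rfl⟩ := Ideal.Quotient.mk_surjective z
  refine ⟨Ideal.Quotient.mk Q (pinv A x), mul_right_cancel₀ hz ?_⟩
  rw [one_mul, ← map_mul, ← map_mul, mul_pinv_mul]

attribute [local instance] Ideal.Quotient.field

/-- Residue fields of the subring are generated by the image of `A`. -/
theorem mem_closure_range (Q : Ideal (invClosure A)) [Q.IsPrime] (x : invClosure A) :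
    Ideal.Quotient.mk Q x ∈ Subfield.closure (Set.range ((Ideal.Quotient.mk Q).comp (toInv A))) := by
  let E := Subfield.closure (Set.range ((Ideal.Quotient.mk Q).comp (toInv A)))
  let S : Subring (∀ p : PrimeSpectrum A, Kbar A p) :=
    (E.toSubring.comap (Ideal.Quotient.mk Q)).map (invClosure A).subtype
  have hle : invClosure A ≤ S := by
    refine sInf_le ⟨?_, ?_⟩
    · rintro _ ⟨a, rfl⟩
      exact ⟨toInv A a, Subfield.subset_closure ⟨a, rfl⟩, rfl⟩
    · rintro _ ⟨y, hy, rfl⟩
      refine ⟨pinv A y, ?_, rfl⟩
      show Ideal.Quotient.mk Q (pinv A y) ∈ E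
      rcases eq_or_ne (Ideal.Quotient.mk Q y) 0 with h | h
      · rw [← pinv_mul_pinv A y, map_mul, map_mul, h, mul_zero, zero_mul]
        exact zero_mem E
      · have : Ideal.Quotient.mk Q (pinv A y) = (Ideal.Quotient.mk Q y)⁻¹ := by
          refine eq_inv_of_mul_eq_one_left (mul_right_cancel₀ h ?_)
          rw [one_mul, ← map_mul, ← map_mul, mul_comm (pinv A y) y, mul_pinv_mul]
        rw [this]
        exact Subfield.inv_mem _ hy
  obtain ⟨y, hy, hyx⟩ := hle x.2
  obtain rfl : y = x := Subtype.ext hyx
  exact hy

/-- An affine scheme receives a surjection from an affine scheme with algebraically closed local rings and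
algebraic residue field extensions. -/
theorem exists_algCover_spec :
    ∃ (B : CommRingCat.{u}) (φ : CommRingCat.of A ⟶ B), SmoothBCLib.AlgFields (Spec B) ∧
      Function.Surjective (PrimeSpectrum.comap φ.hom) ∧
      ∀ (Q : Ideal B) [Q.IsPrime],
        (Ideal.ResidueField.map (Q.comap φ.hom) Q φ.hom rfl).IsIntegral := by
  classical
  letI : ∀ p : PrimeSpectrum A, Algebra (invClosure A) (Kbar A p) := fun p =>
    ((Pi.evalRingHom (Kbar A) p).comp (invClosure A).subtype).toAlgebra
  let C := AICCover.C (A := invClosure A) (Kbar A)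
  let φ : A →+* C := (algebraMap (invClosure A) C).comp (toInv A)
  refine ⟨CommRingCat.of C, CommRingCat.ofHom φ, ?_, fun p => ?_, fun Q hQ => fun y => ?_⟩
  · have hmax : ∀ P : Ideal C, P.IsPrime → P.IsMaximal := fun P hP =>
      Ideal.isMaximal_of_isIntegral_of_isMaximal_comap P (isMaximal_invClosure A (P.comap (algebraMap _ C)))
    have hred : _root_.IsReduced C :=
      isReduced_of_injective (algebraMap C (∀ p, Kbar A p)) Subtype.val_injective
    have hfield : ∀ (P : Ideal C) [P.IsPrime], IsField (Localization.AtPrime P) :=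
      ((S7130.result C).out 1 2).1 (And.intro hred hmax)
    refine ⟨fun t => ?_, fun t => ?_⟩
    · have h : AICCover.MonicRoot (Localization.AtPrime t.asIdeal) :=
        AICCover.MonicRoot.of_isLocalization t.asIdeal.primeCompl (AICCover.monicRoot_C (Kbar A))
      intro p hp hd
      let e := (StructureSheaf.stalkIso C t).toRingEquiv
      obtain ⟨r, hr⟩ := h (p.map e.symm.toRingHom) (hp.map _) (by rwa [hp.natDegree_map])
      refine ⟨e r, ?_⟩
      have := hr.map (f := e.toRingHom)
      rwa [Polynomial.map_map, show e.toRingHom.comp e.symm.toRingHom = RingHom.id _ from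
        RingHom.ext fun x => e.apply_symm_apply x, Polynomial.map_id] at this
    · exact MulEquiv.isField (hfield t.asIdeal) (StructureSheaf.stalkIso C t).symm.toRingEquiv.toMulEquiv
  · let e : C →+* Kbar A p := (Pi.evalRingHom (Kbar A) p).comp (algebraMap C (∀ p, Kbar A p))
    haveI := RingHom.ker_isPrime e
    refine ⟨⟨RingHom.ker e, inferInstance⟩, PrimeSpectrum.ext ?_⟩
    ext a
    show algebraMap p.asIdeal.ResidueField (Kbar A p) (algebraMap A p.asIdeal.ResidueField a) = 0 ↔ _
    rw [map_eq_zero, Ideal.algebraMap_residueField_eq_zero]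
  · obtain ⟨z, rfl⟩ : ∃ z : C, algebraMap C Q.ResidueField z = y := by
      haveI : Q.IsMaximal :=
        Ideal.isMaximal_of_isIntegral_of_isMaximal_comap Q (isMaximal_invClosure A (Q.comap (algebraMap _ C)))
      exact Ideal.algebraMap_residueField_surjective Q y
    let Q₀ := Q.comap (algebraMap (invClosure A) C)
    let ι := Ideal.ResidueField.map (Q.comap φ) Q φ rfl
    let ψ : invClosure A →+* Q.ResidueField := (algebraMap C Q.ResidueField).comp (algebraMap _ C)
    have hψ : ∀ x, ψ x ∈ ι.fieldRange := fun x => by
      let ψ' : invClosure A ⧸ Q₀ →+* Q.ResidueField := Ideal.Quotient.lift Q₀ ψ fun z hz =>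
        (Ideal.algebraMap_residueField_eq_zero).2 hz
      have hsub : Subfield.closure (Set.range ((Ideal.Quotient.mk Q₀).comp (toInv A))) ≤ ι.fieldRange.comap ψ' := by
        rw [Subfield.closure_le]
        rintro _ ⟨a, rfl⟩
        exact ⟨algebraMap A _ a, Ideal.ResidueField.map_algebraMap _ _ _ _ a⟩
      exact hsub (mem_closure_range A Q₀ x)
    obtain ⟨P, hP, hPz⟩ := Algebra.IsIntegral.isIntegral (R := invClosure A) z
    obtain ⟨P', hP', -, hP'm⟩ := Polynomial.lifts_and_natDegree_eq_and_monic (f := ι) (p := P.map ψ)
      ((Polynomial.lifts_iff_coeff_lifts _).2 fun n => by rw [Polynomial.coeff_map]; exact hψ _) (hP.map ψ)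
    refine ⟨P', hP'm, ?_⟩
    rw [← Polynomial.eval_map]
    show (P'.map ι).eval _ = 0
    rw [hP', Polynomial.eval_map, ← Polynomial.hom_eval₂, hPz, map_zero]

/-- The residue field maps of a spectrum map. -/
theorem isIntegral_residueFieldMap_specMap {A B : CommRingCat.{u}} (φ : A ⟶ B) (t : Spec B)
    (h : (Ideal.ResidueField.map (t.asIdeal.comap φ.hom) t.asIdeal φ.hom rfl).IsIntegral) :
    ((Spec.map φ).residueFieldMap t).hom.IsIntegral := by
  let y := (Spec.map φ) t
  let iA := Scheme.Spec.residueFieldIso A y
  let iB := Scheme.Spec.residueFieldIso B t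
  let m : CommRingCat.of y.asIdeal.ResidueField ⟶ CommRingCat.of t.asIdeal.ResidueField :=
    CommRingCat.ofHom (Ideal.ResidueField.map (t.asIdeal.comap φ.hom) t.asIdeal φ.hom rfl)
  have e1 : iA.inv ≫ (Spec.map φ).residueFieldMap t = m ≫ iB.inv := by
    have h1 := Scheme.Hom.SpecMap_residueFieldMap_fromSpecResidueField (Spec.map φ) t
    rw [← Scheme.Spec.map_residueFieldIso_inv_eq_fromSpecResidueField,
      ← Scheme.Spec.map_residueFieldIso_inv_eq_fromSpecResidueField, Category.assoc, ← Spec.map_comp, ← Spec.map_comp,
      ← Spec.map_comp, ← Spec.map_comp] at h1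
    have h2 := Spec.map_injective h1
    refine CommRingCat.hom_ext (Ideal.ResidueField.ringHom_ext ?_)
    have h3 := congrArg CommRingCat.Hom.hom h2
    refine RingHom.ext fun a => ?_
    refine (RingHom.congr_fun h3 a).trans ?_
    show iB.inv.hom (algebraMap B t.asIdeal.ResidueField (φ.hom a)) = iB.inv.hom (m.hom (algebraMap A _ a))
    exact congrArg iB.inv.hom (Ideal.ResidueField.map_algebraMap _ _ _ _ a).symm
  rw [show (Spec.map φ).residueFieldMap t = iA.hom ≫ m ≫ iB.inv by rw [← e1, Iso.hom_inv_id_assoc]]
  rw [CommRingCat.hom_comp, CommRingCat.hom_comp]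
  exact RingHom.IsIntegral.trans _ _
    (RingHom.isIntegral_of_surjective _ iA.commRingCatIsoToRingEquiv.surjective)
    (RingHom.IsIntegral.trans _ _ h
      (RingHom.isIntegral_of_surjective _ iB.commRingCatIsoToRingEquiv.symm.surjective))

/-- An affine scheme receives a surjection from an affine scheme with algebraically closed local rings whose
points are algebraic over their images. -/
theorem exists_algCover (Y : Scheme.{u}) [IsAffine Y] :
    ∃ (T : Scheme.{u}) (p : T ⟶ Y), SmoothBCLib.AlgFields T ∧ Surjective p ∧ IsAffine T ∧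
      ∀ t : T, (p.residueFieldMap t).hom.IsIntegral := by
  obtain ⟨B, φ, hB, hs, hi⟩ := exists_algCover_spec Γ(Y, ⊤)
  haveI : Surjective (Spec.map φ) := ⟨hs⟩
  refine ⟨Spec B, Spec.map φ ≫ Y.isoSpec.inv, hB, inferInstance, inferInstance, fun t => ?_⟩
  rw [Scheme.residueFieldMap_comp, CommRingCat.hom_comp]
  exact RingHom.IsIntegral.trans _ _
    (RingHom.isIntegral_of_surjective _ (asIso (Y.isoSpec.inv.residueFieldMap _)).commRingCatIsoToRingEquiv.surjective)
    (isIntegral_residueFieldMap_specMap φ t (hi t.asIdeal))

end Groth.Agent.AcycCritLib
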