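import Groth.Agent.SHBaseChangeLib.Chart
import Mathlib.FieldTheory.SeparableClosure
import Mathlib.RingTheory.RingHom.QuasiFinite
import Mathlib.RingTheory.Localization.Away.Basic
import Mathlib.AlgebraicGeometry.Scheme

/-!
# Algebraic extensions of residue fields are limits of quasi-finite algebras
-/

set_option autoImplicit false
set_option backward.isDefEq.respectTransparency false
set_option backward.isDefEq.respectTransparency.types false
set_option linter.style.haveILetI false
set_option maxHeartbeats 1000000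

universe u

open CategoryTheory AlgebraicGeometry
open scoped TensorProduct

namespace Groth.Agent.AcycCritLib

open Groth.Agent.SHBaseChangeLib

/-- The subfield generated by the image of a ring in a field. -/
abbrev imageField (R Ω : Type u) [CommRing R] [Field Ω] [Algebra R Ω] : Subfield Ω :=
  Subfield.closure (Set.range (algebraMap R Ω))

/-- An element algebraic over the fractions of the image is, up to a denominator, integral. -/
theorem exists_mul_coeff {R Ω : Type u} [CommRing R] [Field Ω] [Algebra R Ω] {x : Ω}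
    (hx : IsAlgebraic (imageField R Ω) x) :
    ∃ s : R, algebraMap R Ω s ≠ 0 ∧ ∃ p : Polynomial Ω, p.Monic ∧ p.eval x = 0 ∧
      ∀ i, ∃ a : R, algebraMap R Ω a = algebraMap R Ω s * p.coeff i := by
  classical
  have hF : ∀ y : imageField R Ω, ∃ a b : R, algebraMap R Ω b ≠ 0 ∧ algebraMap R Ω a = algebraMap R Ω b * (y : Ω) := by
    rintro ⟨y, hy⟩
    rw [Subfield.mem_closure_iff] at hy
    obtain ⟨u, hu, v, hv, rfl⟩ := hy
    have hcl : Subring.closure (Set.range (algebraMap R Ω)) = (algebraMap R Ω).range := by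
      rw [← RingHom.coe_range, Subring.closure_eq]
    rw [hcl] at hu hv
    obtain ⟨a, rfl⟩ := hu
    obtain ⟨b, rfl⟩ := hv
    by_cases hb : algebraMap R Ω b = 0
    · refine ⟨0, 1, by simp, ?_⟩
      show algebraMap R Ω 0 = algebraMap R Ω 1 * (algebraMap R Ω a / algebraMap R Ω b)
      simp [hb]
    · exact ⟨a, b, hb, (mul_div_cancel₀ (algebraMap R Ω a) hb).symm⟩
  choose a b hb hab using hF
  obtain ⟨P, hP⟩ := hx.isIntegral
  refine ⟨∏ i ∈ P.support, b (P.coeff i), ?_, P.map (imageField R Ω).subtype, hP.1.map _, ?_, fun i => ?_⟩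
  · rw [map_prod]
    exact Finset.prod_ne_zero_iff.2 fun i _ => hb _
  · rw [Polynomial.eval_map]
    exact hP.2
  · rw [Polynomial.coeff_map]
    by_cases hi : i ∈ P.support
    · refine ⟨a (P.coeff i) * ∏ j ∈ P.support.erase i, b (P.coeff j), ?_⟩
      rw [← Finset.mul_prod_erase _ _ hi, map_mul, map_mul, hab]
      show _ = _ * ((P.coeff i : imageField R Ω) : Ω)
      ring
    · refine ⟨0, ?_⟩
      rw [Polynomial.notMem_support_iff.1 hi]
      simp

/-- The separable closure of the image field inside a separably closed field, as an algebra over the ring. -/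
noncomputable abbrev sepField (R Ω : Type u) [CommRing R] [Field Ω] [Algebra R Ω] : IntermediateField (imageField R Ω) Ω :=
  separableClosure (imageField R Ω) Ω

theorem algebraMap_mem_sepField (R Ω : Type u) [CommRing R] [Field Ω] [Algebra R Ω] (r : R) :
    algebraMap R Ω r ∈ sepField R Ω :=
  (sepField R Ω).algebraMap_mem ⟨_, Subfield.subset_closure ⟨r, rfl⟩⟩

/-- The map from the ring to the separable closure of its image field. -/
noncomputable def toSepField (R Ω : Type u) [CommRing R] [Field Ω] [Algebra R Ω] : R →+* sepField R Ω :=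
  (algebraMap R Ω).codRestrict (sepField R Ω) (algebraMap_mem_sepField R Ω)

/-- The map to the separable closure of the image field is a limit of quasi-finite algebras. -/
theorem isIndQuasiFinite_toSepField (R Ω : Type u) [CommRing R] [Field Ω] [Algebra R Ω] :
    IsIndQuasiFinite (toSepField R Ω) := by
  classical
  letI : Algebra R (sepField R Ω) := (toSepField R Ω).toAlgebra
  intro t
  have halg : ∀ x : sepField R Ω, IsAlgebraic (imageField R Ω) (x : Ω) := fun x =>
    (isAlgebraic_algebraMap_iff (R := imageField R Ω) (S := sepField R Ω) (A := Ω) Subtype.val_injective).2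
      (Algebra.IsAlgebraic.isAlgebraic x)
  choose s hs p hp hp0 c hc using fun x => exists_mul_coeff (halg x)
  let s₀ : R := ∏ x ∈ t, s x
  have hs₀ : algebraMap R (sepField R Ω) s₀ ≠ 0 := fun h => by
    have h1 : algebraMap R Ω s₀ = 0 := congrArg Subtype.val h
    rw [map_prod] at h1
    exact Finset.prod_ne_zero_iff.2 (fun x _ => hs x) h1
  let A₁ := Localization.Away s₀
  let φ₁ : A₁ →+* sepField R Ω := IsLocalization.Away.lift s₀ (g := algebraMap R (sepField R Ω)) hs₀.isUnit
  letI : Algebra A₁ (sepField R Ω) := φ₁.toAlgebra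
  haveI : IsScalarTower R A₁ (sepField R Ω) :=
    IsScalarTower.of_algebraMap_eq fun r => (IsLocalization.Away.lift_eq s₀ hs₀.isUnit r).symm
  have hint : ∀ x ∈ (t : Set (sepField R Ω)), IsIntegral A₁ x := fun x hx => by
    let ψ : A₁ →+* Ω := (sepField R Ω).val.toRingHom.comp φ₁
    have hψ : ∀ r, ψ (algebraMap R A₁ r) = algebraMap R Ω r := fun r => by
      show ((φ₁ (algebraMap R A₁ r) : sepField R Ω) : Ω) = _
      rw [IsLocalization.Away.lift_eq]
      rfl
    have hsu : IsUnit (algebraMap R A₁ (s x)) :=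
      isUnit_of_dvd_unit (map_dvd _ (Finset.dvd_prod_of_mem s hx)) (IsLocalization.Away.algebraMap_isUnit s₀)
    have hlift : p x ∈ Polynomial.lifts ψ := by
      rw [Polynomial.lifts_iff_coeff_lifts]
      intro i
      refine ⟨algebraMap R A₁ (c x i) * hsu.unit.inv, ?_⟩
      rw [map_mul, hψ, hc x i, ← hψ (s x), mul_assoc, mul_comm _ (ψ _), ← mul_assoc, ← map_mul]
      rw [show algebraMap R A₁ (s x) * hsu.unit.inv = 1 from hsu.mul_val_inv, map_one, one_mul]
    obtain ⟨P, hP, -, hPm⟩ := Polynomial.lifts_and_natDegree_eq_and_monic hlift (hp x)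
    refine ⟨P, hPm, Subtype.val_injective ?_⟩
    show (sepField R Ω).val.toRingHom (Polynomial.eval₂ φ₁ x P) = 0
    rw [Polynomial.hom_eval₂, ← Polynomial.eval_map, hP]
    exact hp0 x
  haveI : Module.Finite A₁ ↥(Algebra.adjoin A₁ (t : Set (sepField R Ω))) :=
    Algebra.finite_adjoin_of_finite_of_isIntegral t.finite_toSet hint
  refine ⟨(Algebra.adjoin A₁ (t : Set (sepField R Ω))).restrictScalars R, Algebra.subset_adjoin, ?_, ?_⟩
  · haveI : Algebra.FiniteType R A₁ := RingHom.finiteType_algebraMap.1 (RingHom.FiniteType.of_finitePresentation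
      (RingHom.finitePresentation_holdsForLocalizationAway A₁ s₀))
    haveI : Algebra.FiniteType A₁ ↥(Algebra.adjoin A₁ (t : Set (sepField R Ω))) := inferInstance
    exact (Algebra.FiniteType.trans ‹Algebra.FiniteType R A₁› ‹_› :
      Algebra.FiniteType R ↥(Algebra.adjoin A₁ (t : Set (sepField R Ω))))
  · haveI : Algebra.QuasiFinite R A₁ := Algebra.QuasiFinite.of_isLocalization (S := R) (Submonoid.powers s₀)
    exact Algebra.QuasiFinite.trans R A₁ ↥(Algebra.adjoin A₁ (t : Set (sepField R Ω)))

/-- Limits of quasi-finite algebras are stable under base change. -/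
theorem isIndQuasiFinite_includeLeft {R : Type u} (A B : Type u) [CommRing R] [CommRing A] [CommRing B] [Algebra R A]
    [Algebra R B] (h : IsIndQuasiFinite (algebraMap R B)) :
    IsIndQuasiFinite (Algebra.TensorProduct.includeLeftRingHom : A →+* A ⊗[R] B) := by
  classical
  have halg : (algebraMap R B).toAlgebra = ‹Algebra R B› := Algebra.algebra_ext _ _ fun r => rfl
  intro t
  have hfin : ∀ z : A ⊗[R] B, ∃ S : Finset (A × B), z = S.sum fun p => p.1 ⊗ₜ p.2 := fun z =>
    TensorProduct.exists_finset z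
  choose S hS using hfin
  obtain ⟨B₀, hB₀, hft, hqf⟩ := h ((t.biUnion S).image Prod.snd)
  revert B₀
  rw [halg]
  intro B₀ hB₀ hft hqf
  rw [show (Algebra.TensorProduct.includeLeftRingHom : A →+* A ⊗[R] B).toAlgebra = Algebra.TensorProduct.leftAlgebra from
    Algebra.algebra_ext _ _ fun _ => rfl]
  let Φ : A ⊗[R] B₀ →ₐ[A] A ⊗[R] B := Algebra.TensorProduct.map (AlgHom.id A A) B₀.val
  haveI : Algebra.FiniteType A (A ⊗[R] ↥B₀) := inferInstance
  haveI : Algebra.QuasiFinite A (A ⊗[R] ↥B₀) := inferInstance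
  refine ⟨Φ.range, fun z hz => ?_, Algebra.FiniteType.of_surjective Φ.rangeRestrict Φ.rangeRestrict_surjective,
    Algebra.QuasiFinite.of_surjective_algHom Φ.rangeRestrict Φ.rangeRestrict_surjective⟩
  have hz' : z ∈ Φ.range := by
    rw [hS z]
    refine Φ.range.sum_mem fun p hp => ?_
    exact ⟨p.1 ⊗ₜ ⟨p.2, hB₀ (Finset.mem_image_of_mem _ (Finset.mem_biUnion.2 ⟨z, hz, hp⟩))⟩, by simp [Φ]⟩
  exact hz'

/-- Invariance under isomorphisms. -/
theorem isIndQuasiFinite_conj {R R' S S' : Type u} [CommRing R] [CommRing R'] [CommRing S] [CommRing S']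
    (φ : R →+* S) (e₁ : R' ≃+* R) (e₂ : S ≃+* S') (h : IsIndQuasiFinite φ) :
    IsIndQuasiFinite ((e₂.toRingHom.comp φ).comp e₁.toRingHom) := by
  classical
  letI := φ.toAlgebra
  letI := ((e₂.toRingHom.comp φ).comp e₁.toRingHom).toAlgebra
  intro t
  obtain ⟨B₀, hB₀, hft, hqf⟩ := h (t.image e₂.symm)
  let B₁ : Subalgebra R' S' :=
    { B₀.toSubring.map e₂.toRingHom with
      algebraMap_mem' := fun r => ⟨algebraMap R S (e₁ r), B₀.algebraMap_mem _, rfl⟩ }
  let eB : ↥B₀ ≃+* ↥B₁ :=
    RingEquiv.ofBijective (RingHom.codRestrict (e₂.toRingHom.comp B₀.val.toRingHom) B₁ fun x => ⟨x, x.2, rfl⟩)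
      ⟨fun a b e => Subtype.ext (e₂.injective (congrArg Subtype.val e)), fun ⟨_, x, hx, rfl⟩ => ⟨⟨x, hx⟩, rfl⟩⟩
  have hcomm : algebraMap R' ↥B₁ = (eB.toRingHom.comp (algebraMap R ↥B₀)).comp e₁.toRingHom := rfl
  refine ⟨B₁, fun z hz => ⟨e₂.symm z, hB₀ (Finset.mem_image_of_mem _ hz), e₂.apply_symm_apply z⟩, ?_, ?_⟩
  · refine RingHom.finiteType_algebraMap.1 ?_
    rw [hcomm]
    exact ((RingHom.FiniteType.of_surjective eB.toRingHom eB.surjective).comp (RingHom.finiteType_algebraMap.2 hft)).comp
      (RingHom.FiniteType.of_surjective e₁.toRingHom e₁.surjective)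
  · refine RingHom.quasiFinite_algebraMap.1 ?_
    rw [hcomm]
    exact (RingHom.QuasiFinite.comp (RingHom.QuasiFinite.of_finite (RingHom.Finite.of_surjective _ eB.surjective))
      (RingHom.quasiFinite_algebraMap.2 hqf)).comp
      (RingHom.QuasiFinite.of_finite (RingHom.Finite.of_surjective _ e₁.surjective))

/-- The chart condition for the morphism of spectra of a limit of quasi-finite algebras. -/
theorem exists_chart_spec {R S : Type u} [CommRing R] [CommRing S] (φ : R →+* S) (h : IsIndQuasiFinite φ)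
    (s : Spec (CommRingCat.of S)) :
    ∃ (U : (Spec (CommRingCat.of R)).Opens) (U' : (Spec (CommRingCat.of S)).Opens)
      (e : U' ≤ Spec.map (CommRingCat.ofHom φ) ⁻¹ᵁ U), IsAffineOpen U ∧ IsAffineOpen U' ∧ s ∈ U' ∧
      IsIndQuasiFinite ((Spec.map (CommRingCat.ofHom φ)).appLE U U' e).hom := by
  refine ⟨⊤, ⊤, le_rfl, isAffineOpen_top _, isAffineOpen_top _, trivial, ?_⟩
  let i₁ := (Scheme.ΓSpecIso (CommRingCat.of R)).commRingCatIsoToRingEquiv
  let i₂ := (Scheme.ΓSpecIso (CommRingCat.of S)).commRingCatIsoToRingEquiv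
  have e : ((Spec.map (CommRingCat.ofHom φ)).appLE ⊤ ⊤ le_rfl).hom =
      (i₂.symm.toRingHom.comp φ).comp i₁.toRingHom := by
    have h1 : (Spec.map (CommRingCat.ofHom φ)).appTop =
        (Scheme.ΓSpecIso (CommRingCat.of R)).hom ≫ CommRingCat.ofHom φ ≫ (Scheme.ΓSpecIso (CommRingCat.of S)).inv := by
      rw [← Scheme.ΓSpecIso_naturality_assoc, Iso.hom_inv_id, Category.comp_id]
    rw [show (Spec.map (CommRingCat.ofHom φ)).appLE ⊤ ⊤ le_rfl = (Spec.map (CommRingCat.ofHom φ)).appTop from
      Scheme.Hom.appLE_eq_app _, h1]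
    rfl
  rw [e]
  exact isIndQuasiFinite_conj φ i₁ i₂.symm h

end Groth.Agent.AcycCritLib
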