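import Groth.Agent.AcycCritLib.EtRestLoc
import Groth.Agent.AcycCritLib.IndQF
import Groth.Agent.SHBaseChangeLib.Main
import Groth.Agent.S3478
import Groth.Agent.S0537

/-!
# Composition of locally acyclic morphisms
-/

set_option autoImplicit false
set_option linter.style.haveILetI false
set_option backward.isDefEq.respectTransparency false
set_option backward.isDefEq.respectTransparency.types false
set_option maxHeartbeats 1000000
set_option synthInstance.maxHeartbeats 400000

universe u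

open CategoryTheory CategoryTheory.Limits AlgebraicGeometry Opposite IsLocalRing
open Groth.Agent.EtPtsLib Groth.Agent.SmoothBCLib
open scoped TensorProduct

noncomputable section

namespace Groth.Agent.AcycCritLib

attribute [local instance] Groth.Agent.S0101.result

/-- The comparison of the cohomology of `ℤ/n` along an extension of separably closed fields. -/
theorem nonempty_H_zmod_ext {W W' : Scheme.{u}} {k K : Type u} [Field k] [IsSepClosed k] [Field K] [IsSepClosed K]
    (σ : k →+* K) (a : W ⟶ Spec (CommRingCat.of k)) (p : W' ⟶ W) (b : W' ⟶ Spec (CommRingCat.of K))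
    (h : IsPullback p b a (Spec.map (CommRingCat.ofHom σ))) {n : ℕ} (hn : (n : k) ≠ 0) (q : ℕ) :
    Nonempty (EtCoh.H W (EtCoh.const W (ZMod n)) q ≃+ EtCoh.H W' (EtCoh.const W' (ZMod n)) q) := by
  letI : Algebra k K := σ.toAlgebra
  let pr := pullback.fst a (Spec.map (CommRingCat.ofHom (algebraMap k K)))
  have hp : EtAcyc.PrimesIn {ℓ | ℓ.Prime ∧ ℓ ≠ ringChar k} n := by
    refine ⟨Nat.pos_of_ne_zero fun h0 => hn (by rw [h0, Nat.cast_zero]), fun p hp hd => ⟨hp, fun he => hn ?_⟩⟩
    obtain ⟨c, rfl⟩ := hd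
    rw [Nat.cast_mul, he, ringChar.Nat.cast_ringChar, zero_mul]
  have hb := S3478.result k K a (EtCoh.const W (ZMod n))
    (CompBCLib.isLTorsion_of_killedBy hp (PBCLib.killedBy_const W n)) q
  let e : W' ⟶ pullback a (Spec.map (CommRingCat.ofHom (algebraMap k K))) := h.isoPullback.hom
  obtain ⟨ε⟩ := SHBaseChangeLib.nonempty_H_const_equiv e (ZMod n) q
  exact ⟨((AddEquiv.ofBijective _ hb).trans
    ((EtCoh.HF _ q).mapIso (EtCore.pullConst pr (ZMod n))).addCommGroupIsoToAddEquiv).trans ε⟩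

/-- An integer invertible at a point of the source is invertible at every point over its strict localization. -/
theorem isUnit_natCast_of_ne_zero {X : Scheme.{u}} (x : X) (RX : Type u) [CommRing RX] [IsLocalRing RX]
    [Algebra (X.presheaf.stalk x) RX] [IsLocalHom (algebraMap (X.presheaf.stalk x) RX)] (n : ℕ)
    (hn : (n : X.residueField x) ≠ 0) : IsUnit (n : RX) := by
  have h : IsUnit (n : X.presheaf.stalk x) := by
    rw [← residue_ne_zero_iff_isUnit, map_natCast]
    exact hn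
  simpa using h.map (algebraMap (X.presheaf.stalk x) RX)

/-- **A composite of locally acyclic morphisms is locally acyclic.** -/
theorem isLocallyAcyclic_comp {X Y Z : Scheme.{u}} (f : X ⟶ Y) (g : Y ⟶ Z) (hf : EtRest.IsLocallyAcyclic f)
    (hg : EtRest.IsLocallyAcyclic g) : EtRest.IsLocallyAcyclic (f ≫ g) := by
  intro x RZ RX _ _ _ _ _ _ _ _ _ _ _ hlh hψ Ω _ _ _ n hn
  haveI hX : Hensel.IsStrictHenselization (X.presheaf.stalk x) RX := inferInstance
  haveI : HenselianLocalRing RX := hX.henselian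
  haveI : IsSepClosed (ResidueField RX) := hX.isSepClosure.sep_closed
  obtain ⟨RY, _, _, _, _, hRY⟩ := Groth.Agent.S0537.result (Y.presheaf.stalk (f x))
  obtain ⟨σ, hσl, hσ, -⟩ := exists_strictLoc_hom f x RY RX
  haveI := hσl
  letI aZ : Algebra (Z.presheaf.stalk (g (f x))) RZ := ‹Algebra (Z.presheaf.stalk ((f ≫ g).base x)) RZ›
  haveI : IsLocalHom (algebraMap (Z.presheaf.stalk (g (f x))) RZ) :=
    ‹IsLocalHom (algebraMap (Z.presheaf.stalk ((f ≫ g).base x)) RZ)›
  haveI : Hensel.IsStrictHenselization (Z.presheaf.stalk (g (f x))) RZ :=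
    ‹Hensel.IsStrictHenselization (Z.presheaf.stalk ((f ≫ g).base x)) RZ›
  haveI : IsLocalHom (g.stalkMap (f x)).hom := inferInstance
  obtain ⟨φ, hφ, hφl, hφσ⟩ := SHBaseChangeLib.exists_map_factor (A := Z.presheaf.stalk (g (f x))) (RA := RZ)
    (RB := RY) (g.stalkMap (f x)).hom σ (algebraMap RZ RX) (by
      refine hψ.trans ?_
      rw [hσ, Scheme.Hom.stalkMap_comp]
      rfl)
  haveI := hφl
  -- the algebraic part of the coefficient field
  let K := sepField RZ Ω
  haveI : IsSepClosed K := (separableClosure.isSepClosure (imageField RZ Ω) Ω).sep_closed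
  letI : Algebra RZ K := (toSepField RZ Ω).toAlgebra
  letI : Algebra RZ RY := φ.toAlgebra
  haveI : IsLocalHom (algebraMap RZ RY) := hφl
  have hnX : IsUnit (n : RX) := isUnit_natCast_of_ne_zero x RX n hn
  have hny : (n : Y.residueField (f x)) ≠ 0 := fun h => hn (by
    rw [← map_natCast (f.residueFieldMap x).hom n, h, map_zero])
  have hnK : (n : K) ≠ 0 := by
    have h1 : IsUnit (n : RZ) := isUnit_of_map_unit (algebraMap RZ RX) _ (by rwa [map_natCast])
    exact fun h0 => not_isUnit_zero (h0 ▸ (map_natCast (toSepField RZ Ω) n) ▸ h1.map (toSepField RZ Ω))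
  obtain ⟨hgq, ⟨hg0⟩⟩ := hg (f x) RZ RY hφ K n hny
  let V := Spec (CommRingCat.of (RY ⊗[RZ] K))
  let v₁ : V ⟶ Spec (CommRingCat.of RY) :=
    Spec.map (CommRingCat.ofHom (Algebra.TensorProduct.includeLeftRingHom : RY →+* RY ⊗[RZ] K))
  let v₂ : V ⟶ Spec (CommRingCat.of K) :=
    Spec.map (CommRingCat.ofHom (Algebra.TensorProduct.includeRight.toRingHom : K →+* RY ⊗[RZ] K))
  have sqV : IsPullback v₁ v₂ (Spec.map (CommRingCat.ofHom φ)) (Spec.map (CommRingCat.ofHom (toSepField RZ Ω))) :=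
    isPullback_SpecMap_of_isPushout _ _ _ _ (CommRingCat.isPushout_tensorProduct RZ RY K)
  let f₁ := Spec.map (CommRingCat.ofHom σ)
  let h := pullback.snd f₁ v₁
  have hLA : EtRest.IsLocallyAcyclic h := SHBaseChangeLib.isLocallyAcyclic_baseChange (IsPullback.of_hasPullback f₁ v₁)
    (exists_chart_spec _ (isIndQuasiFinite_includeLeft RY K (isIndQuasiFinite_toSepField RZ Ω)))
    (isLocallyAcyclic_strictLoc f hf x RY RX σ hσ)
  let L : Set ℕ := {ℓ | ℓ.Prime ∧ ℓ ∣ n}
  have hL : ∀ ℓ ∈ L, ℓ.Prime → ∀ w : ↥(pullback f₁ v₁), (ℓ : (pullback f₁ v₁).residueField w) ≠ 0 := by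
    rintro ℓ ⟨-, hdvd⟩ - w h0
    let θ : RX →+* (pullback f₁ v₁).residueField w :=
      (Spec.preimage ((pullback f₁ v₁).fromSpecResidueField w ≫ pullback.fst f₁ v₁)).hom
    have hu : IsUnit (n : (pullback f₁ v₁).residueField w) := map_natCast θ n ▸ hnX.map θ
    obtain ⟨c, rfl⟩ := hdvd
    rw [Nat.cast_mul, h0, zero_mul] at hu
    exact not_isUnit_zero hu
  have hLx : ∀ ℓ ∈ L, ℓ.Prime → (ℓ : X.residueField x) ≠ 0 := by
    rintro ℓ ⟨-, ⟨c, rfl⟩⟩ - h0
    exact hn (by rw [Nat.cast_mul, h0, zero_mul])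
  have hgf : ∀ m, EtAcyc.GeomFibresAcyclicN L m h := fun m v Ω' _ _ _ _ => by
    refine isAcyclicSchemeN_of_iso
      (((IsPullback.of_hasPullback h (EtAcyc.geomPt V v Ω')).flip.paste_vert
        (IsPullback.of_hasPullback f₁ v₁).flip).flip.isoPullback) ?_
    exact isAcyclicSchemeN_vc f hf x RY RX σ hσ hLx m Ω' _
  haveI : IsAffine V := inferInstanceAs (IsAffine (Spec _))
  have hprim : EtAcyc.PrimesIn L n :=
    ⟨Nat.pos_of_ne_zero fun h0 => hn (by rw [h0, Nat.cast_zero]), fun p hp hd => ⟨hp, hd⟩⟩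
  let W' := Spec (CommRingCat.of (EtRest.vcRing RZ RX Ω))
  let a := h ≫ v₂
  have sqW : IsPullback (pullback.fst f₁ v₁) a (Spec.map (CommRingCat.ofHom (algebraMap RZ RX)))
      (Spec.map (CommRingCat.ofHom (toSepField RZ Ω))) := by
    have H := (IsPullback.of_hasPullback f₁ v₁).paste_vert sqV
    rwa [← Spec.map_comp, ← CommRingCat.ofHom_comp, hφσ] at H
  let j : K →+* Ω := K.val.toRingHom
  have hj : Spec.map (CommRingCat.ofHom j) ≫ Spec.map (CommRingCat.ofHom (toSepField RZ Ω)) =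
      Spec.map (CommRingCat.ofHom (algebraMap RZ Ω)) := by
    rw [← Spec.map_comp]
    rfl
  let qX : W' ⟶ Spec (CommRingCat.of RX) := Spec.map (CommRingCat.ofHom Algebra.TensorProduct.includeLeftRingHom)
  let qΩ : W' ⟶ Spec (CommRingCat.of Ω) :=
    Spec.map (CommRingCat.ofHom (Algebra.TensorProduct.includeRight.toRingHom : Ω →+* RX ⊗[RZ] Ω))
  have sqΩ : IsPullback qX qΩ (Spec.map (CommRingCat.ofHom (algebraMap RZ RX)))
      (Spec.map (CommRingCat.ofHom j) ≫ Spec.map (CommRingCat.ofHom (toSepField RZ Ω))) :=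
    hj ▸ isPullback_SpecMap_of_isPushout _ _ _ _ (CommRingCat.isPushout_tensorProduct RZ RX Ω)
  let p : W' ⟶ pullback f₁ v₁ := sqW.lift qX (qΩ ≫ Spec.map (CommRingCat.ofHom j)) (by rw [Category.assoc, sqΩ.w])
  have sqp : IsPullback p qΩ a (Spec.map (CommRingCat.ofHom j)) := by
    refine (IsPullback.of_bot ?_ (sqW.lift_snd _ _ _).symm sqW.flip).flip
    rw [IsPullback.lift_fst]
    exact sqΩ.flip
  have key : ∀ q, Nonempty (EtCoh.H V (EtCoh.const V (ZMod n)) q ≃+ EtCoh.H W' (EtCoh.const W' (ZMod n)) q) := fun q => by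
    obtain ⟨e₁⟩ := nonempty_H_zmod_equiv h (compN_of_geomFibres h (Nat.le_succ q)
      (strictFibres_of_isLocallyAcyclic h hLA hL q) (hgf q)) hprim q le_rfl
    obtain ⟨e₂⟩ := nonempty_H_zmod_ext j a p qΩ sqp hnK q
    exact ⟨e₁.trans e₂⟩
  refine ⟨fun q hq => ?_, ⟨(key 0).some.symm.trans hg0⟩⟩
  haveI := hgq q hq
  exact (key q).some.symm.injective.subsingleton

end Groth.Agent.AcycCritLib
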