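import Groth.Agent.EtTraceLib.ConstSect
import Groth.Agent.EtLimLib.Hpull
import Groth.Agent.CdFieldLib.Basic
import Mathlib.Algebra.Homology.ShortComplex.Ab
import Groth.Prelude.Def_EtAcyc

/-!
# Constant coefficients `ℤ/n` and their divisors on connected schemes
-/

set_option autoImplicit false
set_option backward.isDefEq.respectTransparency false
set_option backward.isDefEq.respectTransparency.types false
set_option linter.style.haveILetI false
set_option maxHeartbeats 1000000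

universe u

open CategoryTheory CategoryTheory.Limits AlgebraicGeometry Opposite CategoryTheory.Abelian

noncomputable section

namespace Groth.Agent.AcycCritLib

variable {X : Scheme.{u}}

/-- On a connected scheme the sections of a constant sheaf are constant. -/
theorem exists_cst_eq [ConnectedSpace X] {M : AddCommGrpCat.{u + 1}}
    (s : EtCoh.sect (EtTraceLib.cSh X M) (EtCoh.top X)) : ∃ c : M, EtPtsLib.cst M (EtCoh.top X) c = s := by
  haveI : ConnectedSpace ↥(EtCoh.top X).left := ‹ConnectedSpace X›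
  let z₀ : (EtCoh.top X).left := Classical.arbitrary _
  refine ⟨EtTraceLib.cval (EtCoh.top X) s z₀, EtTraceLib.cval_ext fun z => ?_⟩
  rw [EtTraceLib.cval_cst]
  exact (EtTraceLib.isLocallyConstant_cval (EtCoh.top X) s).apply_eq_of_preconnectedSpace z₀ z

/-- Global classes of degree zero lift along surjective maps of constant sheaves. -/
theorem surjective_H0_const [ConnectedSpace X] {M N : AddCommGrpCat.{u + 1}} (a : M ⟶ N) (ha : Function.Surjective a) :
    Function.Surjective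
      (Sheaf.H.map ((constantSheaf X.smallEtaleTopology AddCommGrpCat.{u + 1}).map a) 0) := by
  intro x
  obtain ⟨c, hc⟩ := exists_cst_eq (Sheaf.H.equiv₀ _ (EtCore.topIsTerminal X) x)
  obtain ⟨b, rfl⟩ := ha c
  refine ⟨(Sheaf.H.equiv₀ _ (EtCore.topIsTerminal X)).symm (EtPtsLib.cst M (EtCoh.top X) b), ?_⟩
  apply (Sheaf.H.equiv₀ _ (EtCore.topIsTerminal X)).injective
  rw [← Sheaf.H.equiv₀_naturality, AddEquiv.apply_symm_apply]
  exact (ConcreteCategory.congr_hom (EtPtsLib.cst_naturality a (EtCoh.top X)) b).trans hc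

/-- The group `ℤ/n`, lifted. -/
abbrev zm (n : ℕ) : AddCommGrpCat.{u + 1} := AddCommGrpCat.of (ULift.{u + 1} (ZMod n))

/-- Multiplication by `m` from `ℤ/d` to `ℤ/(d m)`. -/
def zmMul {n : ℕ} (d m : ℕ) (h : d * m = n) : zm.{u} d ⟶ zm.{u} n :=
  AddCommGrpCat.ofHom ((AddEquiv.ulift.symm.toAddMonoidHom.comp
    (ZMod.lift d ⟨(AddMonoidHom.mulRight (m : ZMod n)).comp (Int.castAddHom (ZMod n)), by
      show ((d : ℤ) : ZMod n) * (m : ZMod n) = 0
      rw [Int.cast_natCast, ← Nat.cast_mul, h, ZMod.natCast_self]⟩)).comp AddEquiv.ulift.toAddMonoidHom)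

/-- The reduction. -/
def zmCast {n : ℕ} (m : ℕ) (h : m ∣ n) : zm.{u} n ⟶ zm.{u} m :=
  AddCommGrpCat.ofHom ((AddEquiv.ulift.symm.toAddMonoidHom.comp (ZMod.castHom h (ZMod m)).toAddMonoidHom).comp
    AddEquiv.ulift.toAddMonoidHom)

theorem zmMul_apply {n : ℕ} (d m : ℕ) (h : d * m = n) (k : ℤ) :
    zmMul.{u} d m h (ULift.up (k : ZMod d)) = ULift.up ((k : ZMod n) * (m : ZMod n)) := by
  show ULift.up (ZMod.lift d _ (k : ZMod d)) = _
  rw [ZMod.lift_coe]
  rfl

theorem zmCast_apply {n : ℕ} (m : ℕ) (h : m ∣ n) (k : ℤ) :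
    zmCast.{u} m h (ULift.up (k : ZMod n)) = ULift.up (k : ZMod m) := by
  show ULift.up (ZMod.castHom h (ZMod m) (k : ZMod n)) = _
  rw [map_intCast]

theorem zm_comp {n : ℕ} (d m : ℕ) (h : d * m = n) :
    zmMul.{u} d m h ≫ zmCast m (h ▸ Dvd.intro_left d rfl) = 0 := by
  ext ⟨x⟩
  obtain ⟨k, rfl⟩ := ZMod.intCast_surjective x
  rw [ConcreteCategory.comp_apply, zmMul_apply, ← Int.cast_natCast (R := ZMod n) m, ← Int.cast_mul, zmCast_apply]
  simp


/-- `0 → ℤ/d → ℤ/(d m) → ℤ/m → 0`. -/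
theorem shortExact_zm {n : ℕ} (d m : ℕ) (h : d * m = n) (hn : 0 < n) :
    (ShortComplex.mk (zmMul.{u} d m h) (zmCast m (h ▸ Dvd.intro_left d rfl)) (zm_comp d m h)).ShortExact := by
  have hmn : m ∣ n := h ▸ Dvd.intro_left d rfl
  have hm : 0 < m := Nat.pos_of_dvd_of_pos hmn hn
  refine { exact := (ShortComplex.ab_exact_iff _).2 ?_, mono_f := ?_, epi_g := ?_ }
  · rintro ⟨y⟩ hy
    obtain ⟨k, rfl⟩ := ZMod.intCast_surjective y
    change zmCast.{u} m hmn (ULift.up (k : ZMod n)) = 0 at hy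
    rw [zmCast_apply] at hy
    obtain ⟨j, rfl⟩ := (ZMod.intCast_zmod_eq_zero_iff_dvd k m).1 (congrArg ULift.down hy)
    refine ⟨ULift.up (j : ZMod d), ?_⟩
    show zmMul.{u} d m h (ULift.up (j : ZMod d)) = ULift.up _
    rw [zmMul_apply]
    refine congrArg ULift.up ?_
    push_cast
    ring
  · refine (AddCommGrpCat.mono_iff_injective _).2 ((injective_iff_map_eq_zero _).2 ?_)
    rintro ⟨y⟩ hy
    obtain ⟨k, rfl⟩ := ZMod.intCast_surjective y
    change zmMul.{u} d m h (ULift.up (k : ZMod d)) = 0 at hy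
    rw [zmMul_apply] at hy
    have h1 : (((k * (m : ℤ)) : ℤ) : ZMod n) = 0 := by
      push_cast
      exact congrArg ULift.down hy
    rw [ZMod.intCast_zmod_eq_zero_iff_dvd, ← h] at h1
    push_cast at h1
    refine congrArg ULift.up ((ZMod.intCast_zmod_eq_zero_iff_dvd k d).2 ?_)
    exact (mul_dvd_mul_iff_right (by exact_mod_cast hm.ne')).1 h1
  · refine (AddCommGrpCat.epi_iff_surjective _).2 ?_
    rintro ⟨y⟩
    obtain ⟨k, rfl⟩ := ZMod.intCast_surjective y
    exact ⟨ULift.up (k : ZMod n), zmCast_apply m hmn k⟩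

/-- On a connected scheme, vanishing of the cohomology of `ℤ/n` gives that of `ℤ/d` for the divisors `d`. -/
theorem subsingleton_H_divisor [ConnectedSpace X] {n : ℕ} (hn : 0 < n)
    (hX : ∀ q : ℕ, 0 < q → Subsingleton (EtCoh.H X (EtCoh.const X (ZMod n)) q)) :
    ∀ (k d : ℕ), d ∣ n → Subsingleton (EtCoh.H X (EtCoh.const X (ZMod d)) (k + 1)) := by
  intro k
  induction k with
  | zero =>
    rintro d ⟨m, rfl⟩
    haveI : PreservesFiniteLimits (constantSheaf X.smallEtaleTopology AddCommGrpCat.{u + 1}) :=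
      inferInstanceAs (PreservesFiniteLimits (Functor.const _ ⋙ presheafToSheaf _ _))
    haveI : PreservesFiniteColimits (constantSheaf X.smallEtaleTopology AddCommGrpCat.{u + 1}) :=
      inferInstanceAs (PreservesFiniteColimits (Functor.const _ ⋙ presheafToSheaf _ _))
    have hS := (shortExact_zm.{u} d m rfl hn).map_of_exact (constantSheaf X.smallEtaleTopology AddCommGrpCat.{u + 1})
    refine subsingleton_of_forall_eq 0 fun x => ?_
    obtain ⟨y, rfl⟩ := Ext.covariant_sequence_exact₁ _ hS x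
      (@Subsingleton.elim _ (hX 1 one_pos) _ _) (rfl : 0 + 1 = 0 + 1)
    obtain ⟨b, rfl⟩ := surjective_H0_const (zmCast.{u} m (Dvd.intro_left d rfl))
      ((AddCommGrpCat.epi_iff_surjective _).1 (shortExact_zm.{u} d m rfl hn).epi_g) y
    show (Ext.comp b (Ext.mk₀ _) (add_zero 0)).comp _ _ = 0
    rw [Ext.comp_assoc_of_second_deg_zero]
    exact (congrArg (fun z => Ext.comp b z rfl) hS.comp_extClass).trans (Ext.comp_zero _ _ _ _ _)
  | succ k ih =>
    rintro d ⟨m, rfl⟩
    haveI : PreservesFiniteLimits (constantSheaf X.smallEtaleTopology AddCommGrpCat.{u + 1}) :=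
      inferInstanceAs (PreservesFiniteLimits (Functor.const _ ⋙ presheafToSheaf _ _))
    haveI : PreservesFiniteColimits (constantSheaf X.smallEtaleTopology AddCommGrpCat.{u + 1}) :=
      inferInstanceAs (PreservesFiniteColimits (Functor.const _ ⋙ presheafToSheaf _ _))
    have hS := (shortExact_zm.{u} d m rfl hn).map_of_exact (constantSheaf X.smallEtaleTopology AddCommGrpCat.{u + 1})
    refine subsingleton_of_forall_eq 0 fun x => ?_
    obtain ⟨y, rfl⟩ := Ext.covariant_sequence_exact₁ _ hS x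
      (@Subsingleton.elim _ (hX (k + 1 + 1) (Nat.succ_pos _)) _ _) (rfl : k + 1 + 1 = k + 1 + 1)
    rw [@Subsingleton.elim _ (ih m (Dvd.intro_left d rfl)) y 0]
    exact Ext.zero_comp _ _ _ _ _

/-- `ℤ/n` in degree zero detects connectedness. -/
theorem connected_of_H0_zmod {n : ℕ} (hn : 1 < n) (e : EtCoh.H X (EtCoh.const X (ZMod n)) 0 ≃ ZMod n) :
    Nonempty X ∧ ConnectedSpace X := by
  haveI : NeZero n := ⟨by omega⟩
  haveI : Fact (1 < n) := ⟨hn⟩
  let E : LocallyConstant X (ULift.{u + 1} (ZMod n)) ≃ ZMod n :=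
    ((Sheaf.H.equiv₀ (EtCoh.const X (ZMod n)) (EtCore.topIsTerminal X)).trans
      (EtTraceLib.constEquiv (zm.{u} n) (EtCoh.top X))).toEquiv.symm.trans e
  have hne : Nonempty X := by
    by_contra h
    haveI := not_nonempty_iff.1 h
    haveI : Subsingleton (LocallyConstant X (ULift.{u + 1} (ZMod n))) :=
      ⟨fun a b => LocallyConstant.ext fun x => isEmptyElim x⟩
    haveI := E.symm.subsingleton
    exact absurd (Subsingleton.elim (0 : ZMod n) 1) zero_ne_one
  refine ⟨hne, ?_⟩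
  obtain ⟨x₀⟩ := hne
  let c : ULift.{u + 1} (ZMod n) → LocallyConstant X (ULift.{u + 1} (ZMod n)) := LocallyConstant.const X
  have hc : Function.Injective c := fun a b hab => congrArg (fun f => f x₀) hab
  haveI : Finite (LocallyConstant X (ULift.{u + 1} (ZMod n))) := Finite.of_equiv _ E.symm
  have hcs : Function.Surjective c :=
    ((Nat.bijective_iff_injective_and_card c).2 ⟨hc, Nat.card_congr (Equiv.ulift.trans E.symm)⟩).2
  haveI : Nonempty X := ⟨x₀⟩
  rw [connectedSpace_iff_clopen]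
  refine ⟨inferInstance, fun s hs => ?_⟩
  classical
  obtain ⟨a, ha⟩ := hcs (
    ({ toFun := fun x => if x ∈ s then ULift.up 1 else ULift.up 0
       isLocallyConstant := (IsLocallyConstant.iff_exists_open _).2 fun x => by
        by_cases hx : x ∈ s
        · exact ⟨s, hs.2, hx, fun y hy => by simp [hx, hy]⟩
        · exact ⟨sᶜ, hs.1.isOpen_compl, hx, fun y (hy : y ∉ s) => by simp [hx, hy]⟩ } :
      LocallyConstant X (ULift.{u + 1} (ZMod n))))
  by_contra hcon
  rw [not_or] at hcon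
  obtain ⟨x, hx⟩ := Set.nonempty_iff_ne_empty.2 hcon.1
  obtain ⟨y, hy⟩ := (Set.ne_univ_iff_exists_notMem _).1 hcon.2
  have h1 : a = ULift.up 1 := by simpa [c, hx] using congrArg (fun f => f x) ha
  have h2 : a = ULift.up 0 := by simpa [c, hy] using congrArg (fun f => f y) ha
  exact zero_ne_one (congrArg ULift.down (h2.symm.trans h1))

/-- Acyclicity for a set of primes from that of `ℤ/n`. -/
theorem isAcyclicSchemeN_of_zmod {n : ℕ} (hn : 1 < n)
    (e : EtCoh.H X (EtCoh.const X (ZMod n)) 0 ≃ ZMod n)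
    (hX : ∀ q : ℕ, 0 < q → Subsingleton (EtCoh.H X (EtCoh.const X (ZMod n)) q)) (m : ℕ) :
    EtAcyc.IsAcyclicSchemeN {ℓ | ℓ.Prime ∧ ℓ ∣ n} m X := by
  obtain ⟨hne, hc⟩ := connected_of_H0_zmod hn e
  haveI := hc
  refine ⟨hne, hc, fun ℓ _ hℓ q hq _ => ?_⟩
  obtain ⟨q, rfl⟩ := Nat.exists_eq_succ_of_ne_zero (Nat.one_le_iff_ne_zero.1 hq)
  exact subsingleton_H_divisor (by omega) hX q ℓ hℓ.2

end Groth.Agent.AcycCritLib
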