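import Groth.Agent.AcycCritLib.Main
import Groth.Agent.PBCLib.Nbhd
import Groth.Agent.SmoothBCLib.LARelStalk
import Groth.Agent.SpSeqLib.Acyclic

/-!
# Classes which vanish locally on the base

A class upstairs which vanishes near every geometric point of the base comes from the base when the intermediate
direct images vanish, and is zero when the base has no cohomology.
-/

set_option autoImplicit false
set_option linter.style.haveILetI false
set_option backward.isDefEq.respectTransparency false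
set_option backward.isDefEq.respectTransparency.types false
set_option maxHeartbeats 1000000
set_option synthInstance.maxHeartbeats 400000

universe u

open CategoryTheory CategoryTheory.Limits AlgebraicGeometry Opposite CategoryTheory.Abelian IsLocalRing
open Groth.Agent.EtPtsLib Groth.Agent.SmoothBCLib

noncomputable section

namespace Groth.Agent.AcycCritLib

attribute [local instance] Groth.Agent.S0101.result

/-- A morphism which vanishes after inverse image along maps through which all geometric points factor is zero. -/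
theorem eq_zero_of_pull {Y : Scheme.{u}} {A B : EtCoh.Ab Y} (a : A ⟶ B)
    (h : ∀ (Ω : Type u) [Field Ω] [IsSepClosed Ω] (ξ : Spec (CommRingCat.of Ω) ⟶ Y),
      ∃ (W : Scheme.{u}) (j : W ⟶ Y) (ζ : Spec (CommRingCat.of Ω) ⟶ W), ζ ≫ j = ξ ∧ (EtCoh.pull j).map a = 0) :
    a = 0 := by
  refine PBCLib.eq_zero_of_stalk a fun Ω _ _ ξ x => ?_
  obtain ⟨W, j, ζ, rfl, h0⟩ := h Ω ξ
  haveI : (EtCoh.stalk (X := W) ζ).Additive := Functor.additive_of_preserves_binary_products _
  let e₀ : EtCoh.pull j ⋙ EtCoh.stalk ζ ≅ EtCoh.stalk (ζ ≫ j) := pullStalkIso j ζ AddCommGrpCat.{u + 1}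
  have hz : (EtCoh.stalk (ζ ≫ j)).map a = 0 := by
    rw [← cancel_epi (e₀.hom.app A), comp_zero]
    refine (e₀.hom.naturality a).symm.trans ?_
    show (EtCoh.stalk ζ).map ((EtCoh.pull j).map a) ≫ _ = 0
    rw [h0, Functor.map_zero, zero_comp]
  rw [hz]
  rfl

/-- Pulling back a class of degree zero. -/
theorem Hpull_mk₀ {W Y : Scheme.{u}} (j : W ⟶ Y) {A : EtCoh.Ab Y} (a : EtCoh.const Y ℤ ⟶ A) :
    EtCore.Hpull j A 0 (Ext.mk₀ a) = Ext.mk₀ ((EtCore.pullConst j ℤ).inv ≫ (EtCoh.pull j).map a) := by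
  show (Ext.mk₀ (EtCore.pullConst j ℤ).inv).comp ((Ext.mk₀ a).mapExactFunctor (EtCoh.pull j)) (zero_add 0) = _
  rw [Ext.mapExactFunctor_mk₀, Ext.mk₀_comp_mk₀]

/-- A global section which vanishes after inverse image along such maps is zero. -/
theorem eq_zero_of_Hpull {Y : Scheme.{u}} {A : EtCoh.Ab Y} (x : EtCoh.H Y A 0)
    (h : ∀ (Ω : Type u) [Field Ω] [IsSepClosed Ω] (ξ : Spec (CommRingCat.of Ω) ⟶ Y),
      ∃ (W : Scheme.{u}) (j : W ⟶ Y) (ζ : Spec (CommRingCat.of Ω) ⟶ W), ζ ≫ j = ξ ∧ EtCore.Hpull j A 0 x = 0) :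
    x = 0 := by
  obtain ⟨a, rfl⟩ := (Ext.mk₀_bijective _ _).2 x
  have ha : a = 0 := eq_zero_of_pull a fun Ω _ _ ξ => by
    obtain ⟨W, j, ζ, hζ, h0⟩ := h Ω ξ
    refine ⟨W, j, ζ, hζ, ?_⟩
    rw [Hpull_mk₀] at h0
    replace h0 := h0.trans (Ext.mk₀_zero _ _).symm
    have h1 := (Ext.mk₀_bijective _ _).1 h0
    rwa [← cancel_epi (EtCore.pullConst j ℤ).inv, comp_zero]
  rw [ha]
  exact Ext.mk₀_zero _ _

variable {X Y : Scheme.{u}} (g : X ⟶ Y)

/-- Near every geometric point of the base there is a base change of `g`, compatible with direct images and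
preserving acyclicity of injectives, which kills the class. -/
def LocZero {M : EtCoh.Ab X} {n : ℕ} (d : EtCoh.H X M n) : Prop :=
  ∀ (Ω : Type u) [Field Ω] [IsSepClosed Ω] (ξ : Spec (CommRingCat.of Ω) ⟶ Y),
    ∃ (W X' : Scheme.{u}) (j : W ⟶ Y) (f' : X' ⟶ W) (g' : X' ⟶ X) (w : g' ≫ g = f' ≫ j)
      (ζ : Spec (CommRingCat.of Ω) ⟶ W),
      ζ ≫ j = ξ ∧ (∀ G, IsIso (EtCoh.baseChange0 g j f' g' w G)) ∧
        (∀ I : EtCoh.Ab X, Injective I → ∀ k : ℕ, Subsingleton (EtCoh.H X' ((EtCoh.pull g').obj I) (k + 1))) ∧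
        EtCore.Hpull g' M n d = 0

/-- In positive degrees the property passes to a preimage under a connecting map of an injective embedding. -/
theorem LocZero.preimage {S : ShortComplex (EtCoh.Ab X)} (hS : S.ShortExact) [Injective S.X₂] {k : ℕ}
    (e : EtCoh.H X S.X₃ (k + 1)) (h : LocZero g (e.comp hS.extClass (rfl : k + 1 + 1 = k + 1 + 1))) :
    LocZero g e := by
  intro Ω _ _ ξ
  obtain ⟨W, X', j, f', g', w, ζ, hζ, hbc, hinj, h0⟩ := h Ω ξ
  refine ⟨W, X', j, f', g', w, ζ, hζ, hbc, hinj, ?_⟩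
  rw [CompBCLib.Hpull_δ g' hS e] at h0
  obtain ⟨s, hs⟩ := Ext.covariant_sequence_exact₃ _ (hS.map_of_exact (EtCoh.pull g')) _ (rfl : k + 1 + 1 = k + 1 + 1) h0
  haveI := hinj S.X₂ inferInstance k
  have hz : s = 0 := @Subsingleton.elim _ (hinj S.X₂ inferInstance k) _ _
  rw [← hs, hz]
  exact Ext.zero_comp _ _ _ _ _

/-- Transposition and connecting maps. -/
theorem HofPush_δ {S : ShortComplex (EtCoh.Ab X)} (hS : S.ShortExact) {T : EtCoh.Ab Y}
    {π : (EtCoh.push g).obj S.X₂ ⟶ T} {z : (EtCoh.push g).map S.f ≫ π = 0}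
    (hT : (ShortComplex.mk _ π z).ShortExact) (i : T ⟶ (EtCoh.push g).obj S.X₃)
    (hi : π ≫ i = (EtCoh.push g).map S.g) {p : ℕ} (e : EtCoh.H Y T p) :
    EtLim.HofPush g S.X₁ (p + 1) (e.comp hT.extClass rfl) =
      (EtLim.HofPush g S.X₃ p (Sheaf.H.map i p e)).comp hS.extClass rfl := by
  haveI : (EtCoh.push g).Additive := (EtCoh.pullPushAdj g).right_adjoint_additive
  haveI : (EtCoh.pull g).Additive := (EtCoh.pullPushAdj g).left_adjoint_additive
  haveI : PreservesColimitsOfSize.{0, 0} (EtCoh.pull g) := (EtCoh.pullPushAdj g).leftAdjoint_preservesColimits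
  haveI : PreservesFiniteColimits (EtCoh.pull g) := PreservesColimitsOfSize.preservesFiniteColimits _
  rw [AcycCompLib.HofPush_eq, AcycCompLib.HofPush_eq]
  show AcycCompLib.fromPull g _ _ (ExtAdj.transpose _ _ _ _ _) =
    (AcycCompLib.fromPull g _ _ (ExtAdj.transpose _ _ _ _ _)).comp _ _
  rw [AcycCompLib.transpose_δ (EtCoh.pullPushAdj g) (EtCoh.const Y ℤ) hS hT i hi e]
  exact (Ext.comp_assoc _ _ _ (zero_add p) rfl (by omega : 0 + p + 1 = p + 1)).symm

/-- Degree one: a locally vanishing class comes from the base. -/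
theorem mem_range_one {M : EtCoh.Ab X} (d : EtCoh.H X M 1) (h : LocZero g d) :
    d ∈ Set.range (EtLim.HofPush g M 1) := by
  haveI : (EtCoh.push g).Additive := (EtCoh.pullPushAdj g).right_adjoint_additive
  let S : ShortComplex (EtCoh.Ab X) :=
    ShortComplex.mk (Injective.ι M) (cokernel.π (Injective.ι M)) (cokernel.condition _)
  have hS : S.ShortExact := { exact := S.exact_of_g_is_cokernel (cokernelIsCokernel _) }
  haveI : Injective S.X₂ := inferInstanceAs (Injective (Injective.under M))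
  obtain ⟨e, rfl⟩ := Ext.covariant_sequence_exact₁ _ hS d (Ext.eq_zero_of_injective _) (rfl : 0 + 1 = 0 + 1)
  obtain ⟨e', rfl⟩ := (PBCLib.bijective_HofPush_zero g S.X₃).2 e
  have hT := AcycCompLib.shortExact_coker (EtCoh.pullPushAdj g) hS
  haveI := AcycCompLib.mono_cokerDesc (EtCoh.pullPushAdj g) hS
  let i := cokernel.desc ((EtCoh.push g).map S.f) ((EtCoh.push g).map S.g)
    (by rw [← Functor.map_comp, S.zero, Functor.map_zero])
  have hi : cokernel.π ((EtCoh.push g).map S.f) ≫ i = (EtCoh.push g).map S.g := cokernel.π_desc _ _ _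
  have hc : (EtCoh.push g).map S.g ≫ cokernel.π i = 0 := by
    rw [← hi, Category.assoc, cokernel.condition, comp_zero]
  have hz : Sheaf.H.map (cokernel.π i) 0 e' = 0 := eq_zero_of_Hpull _ fun Ω _ _ ξ => by
    obtain ⟨W, X', j, f', g', w, ζ, hζ, hbc, -, h0⟩ := h Ω ξ
    refine ⟨W, j, ζ, hζ, ?_⟩
    rw [CompBCLib.Hpull_δ g' hS] at h0
    obtain ⟨s, hs⟩ := Ext.covariant_sequence_exact₃ _ (hS.map_of_exact (EtCoh.pull g')) _ (rfl : 0 + 1 = 0 + 1) h0
    haveI := hbc S.X₂
    haveI := hbc S.X₃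
    obtain ⟨y, hy⟩ := (PBCLib.bijective_HofPush_zero f' _).2 s
    obtain ⟨z, rfl⟩ := (ConcreteCategory.bijective_of_isIso ((EtCoh.HF _ 0).map
      (EtCoh.baseChange0 g j f' g' w S.X₂))).2 y
    subst hy
    have key : Sheaf.H.map ((EtCoh.pull j).map ((EtCoh.push g).map S.g)) 0 z = EtCore.Hpull j _ 0 e' := by
      refine (ConcreteCategory.bijective_of_isIso ((EtCoh.HF _ 0).map
        (EtCoh.baseChange0 g j f' g' w S.X₃))).1 ((PBCLib.bijective_HofPush_zero f' _).1 ?_)
      refine (PBCLib.HofPush_bc_natural g j f' g' w S.g 0 z).trans ?_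
      exact hs.trans (CompBCLib.Hpull_HofPush j g g' f' w S.X₃ 0 e')
    rw [CompBCLib.Hpull_map j (cokernel.π i) e', ← key, CompBCLib.H_map_map, ← Functor.map_comp, hc]
    haveI : (EtCoh.pull j).Additive := (EtCoh.pullPushAdj j).left_adjoint_additive
    rw [Functor.map_zero]
    show Ext.comp z (Ext.mk₀ 0) (add_zero 0) = 0
    rw [Ext.mk₀_zero, Ext.comp_zero]
  have hC : (ShortComplex.mk i (cokernel.π i) (cokernel.condition i)).ShortExact :=
    { exact := ShortComplex.exact_of_g_is_cokernel _ (cokernelIsCokernel _) }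
  obtain ⟨u, rfl⟩ := Ext.covariant_sequence_exact₂ _ hC e' hz
  exact ⟨u.comp hT.extClass rfl, HofPush_δ g hS hT i hi u⟩

/-- A locally vanishing class comes from the base when the intermediate direct images vanish. -/
theorem mem_range_of_locZero : ∀ (k : ℕ) (M : EtCoh.Ab X),
    (∀ q, 1 ≤ q → q ≤ k → IsZero ((EtCoh.Rpush g q).obj M)) →
    ∀ d : EtCoh.H X M (k + 1), LocZero g d → d ∈ Set.range (EtLim.HofPush g M (k + 1)) := by
  intro k
  induction k with
  | zero => exact fun M _ d h => mem_range_one g d h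
  | succ k ih =>
    intro M hM d h
    haveI : (EtCoh.push g).Additive := (EtCoh.pullPushAdj g).right_adjoint_additive
    haveI : PreservesFiniteLimits (EtCoh.push g) :=
      (EtCoh.pullPushAdj g).rightAdjoint_preservesLimits.{0, 0}.preservesFiniteLimits
    let S : ShortComplex (EtCoh.Ab X) :=
      ShortComplex.mk (Injective.ι M) (cokernel.π (Injective.ι M)) (cokernel.condition _)
    have hS : S.ShortExact := { exact := S.exact_of_g_is_cokernel (cokernelIsCokernel _) }
    haveI : Injective S.X₂ := inferInstanceAs (Injective (Injective.under M))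
    obtain ⟨e, rfl⟩ := Ext.covariant_sequence_exact₁ _ hS d (Ext.eq_zero_of_injective _) (rfl : k + 1 + 1 = k + 1 + 1)
    have hQ : ∀ q, 1 ≤ q → q ≤ k → IsZero ((EtCoh.Rpush g q).obj S.X₃) := fun q hq hqk => by
      obtain ⟨q, rfl⟩ := Nat.exists_eq_succ_of_ne_zero (Nat.one_le_iff_ne_zero.1 hq)
      exact AcycCompLib.isZero_quotient (EtCoh.push g) hS q (hM (q + 1 + 1) (by omega) (by omega))
    obtain ⟨e', rfl⟩ := ih S.X₃ hQ e (LocZero.preimage g hS e h)
    have hepi := SpSeqLib.epi_map_of_isZero_rightDerived_one (EtCoh.push g) hS (hM 1 le_rfl (by omega))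
    have hR := AcycCompLib.shortExact_map (EtCoh.pullPushAdj g) hS hepi
    refine ⟨e'.comp hR.extClass rfl, (HofPush_δ g hS hR (𝟙 _) (Category.comp_id _) e').trans ?_⟩
    rw [CompBCLib.H_map_id]

/-- A locally vanishing class is zero when the base has no cohomology. -/
theorem eq_zero_of_locZero (hY : ∀ (G : EtCoh.Ab Y) (q : ℕ), Subsingleton (EtCoh.H Y G (q + 1))) :
    ∀ (k : ℕ) (M : EtCoh.Ab X) (d : EtCoh.H X M (k + 1)), LocZero g d → d = 0 := by
  intro k
  induction k with
  | zero =>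
    intro M d h
    obtain ⟨x, rfl⟩ := mem_range_one g d h
    rw [@Subsingleton.elim _ (hY _ 0) x 0, map_zero]
  | succ k ih =>
    intro M d h
    let S : ShortComplex (EtCoh.Ab X) :=
      ShortComplex.mk (Injective.ι M) (cokernel.π (Injective.ι M)) (cokernel.condition _)
    have hS : S.ShortExact := { exact := S.exact_of_g_is_cokernel (cokernelIsCokernel _) }
    haveI : Injective S.X₂ := inferInstanceAs (Injective (Injective.under M))
    obtain ⟨e, rfl⟩ := Ext.covariant_sequence_exact₁ _ hS d (Ext.eq_zero_of_injective _) (rfl : k + 1 + 1 = k + 1 + 1)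
    rw [ih S.X₃ e (LocZero.preimage g hS e h)]
    exact Ext.zero_comp _ _ _ _ _

/-- Over a scheme with algebraically closed local rings, classes vanishing on all fibres vanish. -/
theorem eq_zero_of_fibres {T C : Scheme.{u}} (hT : AlgFields T) [CompactSpace T] [QuasiSeparatedSpace T]
    (w : C ⟶ T) [QuasiCompact w] [QuasiSeparated w] {k : ℕ} {M : EtCoh.Ab C} (d : EtCoh.H C M (k + 1))
    (h : ∀ t : T, EtCore.Hpull (pullback.fst w (T.fromSpecResidueField t)) M (k + 1) d = 0) : d = 0 := by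
  refine eq_zero_of_locZero w (fun G q => hT.subsingleton_H G (q + 1) q.succ_pos) k M d fun Ω _ _ ξ => ?_
  let t := ξ (closedPoint Ω)
  obtain ⟨hh, hs⟩ := hT.isStrictlyHenselian_stalk t
  haveI := hh
  haveI : IsSepClosed (ResidueField (T.presheaf.stalk t)) := hs
  haveI : Hensel.IsStrictHenselization (T.presheaf.stalk t) (T.presheaf.stalk t) :=
    SHTensor.isStrictHenselization_self _
  let η := Hens2.specOf T t (T.presheaf.stalk t)
  haveI : IsIso (T.residue t) := (ConcreteCategory.isIso_iff_bijective _).2 (by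
    letI : Field (T.presheaf.stalk t) := (hT.isField t).toField
    exact ⟨RingHom.injective _, T.residue_surjective t⟩)
  have hη : η = T.fromSpecStalk t := by
    show Spec.map _ ≫ T.fromSpecStalk t = _
    refine (congrArg (fun m => Spec.map m ≫ T.fromSpecStalk t)
      (show CommRingCat.ofHom (algebraMap (T.presheaf.stalk t) (T.presheaf.stalk t)) = 𝟙 _ from rfl)).trans ?_
    exact (congrArg (· ≫ T.fromSpecStalk t) (Spec.map_id _)).trans (Category.id_comp _)
  have hη' : η = inv (Spec.map (T.residue t)) ≫ T.fromSpecResidueField t := by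
    rw [IsIso.eq_inv_comp, hη]
    rfl
  obtain ⟨N⟩ := StrictLocLib.exists_nbhdSys η (StrictLocLib.bijective_germVal T t (T.presheaf.stalk t))
  refine ⟨_, pullback w η, η, pullback.snd w η, pullback.fst w η, pullback.condition,
    Spec.map (Scheme.stalkClosedPointTo ξ), ?_, fun G => isIso_baseChange0_specOf w t (T.presheaf.stalk t) G,
    fun I _ k => StrictLocLib.subsingleton_H_of_injective η w N I k, ?_⟩
  · rw [hη]
    exact Scheme.Spec_stalkClosedPointTo_fromSpecStalk ξ
  let m : pullback w η ⟶ pullback w (T.fromSpecResidueField t) :=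
    pullback.lift (pullback.fst w η) (pullback.snd w η ≫ inv (Spec.map (T.residue t))) (by
      rw [Category.assoc, ← hη', pullback.condition])
  refine (KPi1Lib.Hpull_comp_eq_zero (pullback.fst w (T.fromSpecResidueField t)) m _
    (pullback.lift_fst _ _ _) M _ d).2 ?_
  rw [h t, map_zero]

end Groth.Agent.AcycCritLib
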