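import Groth.Agent.AcycCritLib.Main
import Groth.Agent.AcycCritLib.ConstZMod
import Groth.Prelude.Def_EtRestW

/-!
# Local acyclicity for constant coefficients and acyclic fibres of strict localizations
-/

set_option autoImplicit false
set_option linter.style.haveILetI false
set_option backward.isDefEq.respectTransparency false
set_option backward.isDefEq.respectTransparency.types false
set_option maxHeartbeats 1000000
set_option synthInstance.maxHeartbeats 400000

universe u

open CategoryTheory CategoryTheory.Limits AlgebraicGeometry Opposite IsLocalRing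
open Groth.Agent.EtPtsLib Groth.Agent.SmoothBCLib
open scoped TensorProduct

noncomputable section

namespace Groth.Agent.AcycCritLib

attribute [local instance] Groth.Agent.S0101.result

/-- Local acyclicity for constant coefficients is kept by weakly étale maps to the source. -/
theorem isLocallyAcyclic_weaklyEtale_comp {X' X Y : Scheme.{u}} (g : X' ⟶ X) [WeaklyEtale g] (f : X ⟶ Y)
    (hf : EtRest.IsLocallyAcyclic f) : EtRest.IsLocallyAcyclic (g ≫ f) := by
  intro x RY RX _ _ _ _ _ _ _ _ _ _ _ _ hψ Ω _ _ _ n hn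
  letI aX : Algebra (X.presheaf.stalk (g x)) RX :=
    ((algebraMap (X'.presheaf.stalk x) RX).comp (g.stalkMap x).hom).toAlgebra
  obtain ⟨_, _⟩ := (Groth.Agent.S1467.result g).1 ‹WeaklyEtale g› x RX
  letI aY : Algebra (Y.presheaf.stalk (f (g x))) RY := ‹Algebra (Y.presheaf.stalk ((g ≫ f).base x)) RY›
  haveI : IsLocalHom (algebraMap (Y.presheaf.stalk (f (g x))) RY) :=
    ‹IsLocalHom (algebraMap (Y.presheaf.stalk ((g ≫ f).base x)) RY)›
  haveI : Hensel.IsStrictHenselization (Y.presheaf.stalk (f (g x))) RY :=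
    ‹Hensel.IsStrictHenselization (Y.presheaf.stalk ((g ≫ f).base x)) RY›
  refine hf (g x) RY RX (hψ.trans ?_) Ω n fun h => hn ?_
  · rw [Scheme.Hom.stalkMap_comp]
    rfl
  · rw [← map_natCast (g.residueFieldMap x).hom n, h, map_zero]

/-- Local acyclicity for constant coefficients descends along weakly étale maps out of the target. -/
theorem isLocallyAcyclic_of_comp_weaklyEtale {X' Y' Y : Scheme.{u}} (f : X' ⟶ Y') (σ : Y' ⟶ Y) [WeaklyEtale σ]
    (hf : EtRest.IsLocallyAcyclic (f ≫ σ)) : EtRest.IsLocallyAcyclic f := by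
  intro x RY RX _ _ _ _ _ _ _ _ _ _ _ _ hψ Ω _ _ _ n hn
  letI aY : Algebra (Y.presheaf.stalk ((f ≫ σ).base x)) RY :=
    ((algebraMap (Y'.presheaf.stalk (f.base x)) RY).comp (σ.stalkMap (f.base x)).hom).toAlgebra
  obtain ⟨hl, hs⟩ := (Groth.Agent.S1467.result σ).1 ‹WeaklyEtale σ› (f.base x) RY
  haveI : IsLocalHom (algebraMap (Y.presheaf.stalk ((f ≫ σ).base x)) RY) := hl
  haveI : Hensel.IsStrictHenselization (Y.presheaf.stalk ((f ≫ σ).base x)) RY := hs
  refine hf x RY RX ?_ Ω n hn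
  rw [Scheme.Hom.stalkMap_comp, CommRingCat.hom_comp, ← RingHom.comp_assoc, ← hψ, RingHom.comp_assoc]
  rfl

/-- The map of strict localizations of a locally acyclic morphism is locally acyclic. -/
theorem isLocallyAcyclic_strictLoc {X Y : Scheme.{u}} (f : X ⟶ Y) (hf : EtRest.IsLocallyAcyclic f) (x : X)
    (RY RX : Type u) [CommRing RY] [CommRing RX] [IsLocalRing RY] [IsLocalRing RX]
    [Algebra (Y.presheaf.stalk (f.base x)) RY] [IsLocalHom (algebraMap (Y.presheaf.stalk (f.base x)) RY)]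
    [Hensel.IsStrictHenselization (Y.presheaf.stalk (f.base x)) RY]
    [Algebra (X.presheaf.stalk x) RX] [IsLocalHom (algebraMap (X.presheaf.stalk x) RX)]
    [Hensel.IsStrictHenselization (X.presheaf.stalk x) RX]
    (ψ : RY →+* RX)
    (hψ : ψ.comp (algebraMap (Y.presheaf.stalk (f.base x)) RY) =
      (algebraMap (X.presheaf.stalk x) RX).comp (f.stalkMap x).hom) :
    EtRest.IsLocallyAcyclic (Spec.map (CommRingCat.ofHom ψ)) := by
  haveI := ProEtSLib.weaklyEtale_specOf X x RX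
  haveI := ProEtSLib.weaklyEtale_specOf Y (f x) RY
  refine isLocallyAcyclic_of_comp_weaklyEtale _ (Hens2.specOf Y (f x) RY) ?_
  have e : Spec.map (CommRingCat.ofHom ψ) ≫ Hens2.specOf Y (f x) RY = Hens2.specOf X x RX ≫ f := by
    show Spec.map _ ≫ Spec.map _ ≫ Y.fromSpecStalk (f x) = (Spec.map _ ≫ X.fromSpecStalk x) ≫ f
    rw [Category.assoc, ← Scheme.SpecMap_stalkMap_fromSpecStalk, ← Category.assoc, ← Category.assoc,
      ← Spec.map_comp, ← Spec.map_comp]
    exact congrArg (fun m => Spec.map m ≫ Y.fromSpecStalk (f x)) (CommRingCat.hom_ext hψ)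
  rw [e]
  exact isLocallyAcyclic_weaklyEtale_comp _ f hf

/-- Every field has a small prime invertible in it. -/
theorem exists_prime_ne_zero (k : Type u) [Field k] : ∃ ℓ : ℕ, ℓ.Prime ∧ (ℓ : k) ≠ 0 := by
  by_cases h2 : ((2 : ℕ) : k) = 0
  · refine ⟨3, Nat.prime_three, fun h3 => one_ne_zero (α := k) ?_⟩
    calc (1 : k) = ((3 : ℕ) : k) - ((2 : ℕ) : k) := by push_cast; ring
      _ = 0 := by rw [h3, h2, sub_zero]
  · exact ⟨2, Nat.prime_two, h2⟩

variable {L : Set ℕ}

/-- The varieties of vanishing cycles of a locally acyclic morphism are acyclic. -/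
theorem isAcyclicSchemeN_vc {X Y : Scheme.{u}} (f : X ⟶ Y) (hf : EtRest.IsLocallyAcyclic f) (x : X)
    (RY RX : Type u) [CommRing RY] [CommRing RX] [IsLocalRing RY] [IsLocalRing RX]
    [Algebra (Y.presheaf.stalk (f.base x)) RY] [IsLocalHom (algebraMap (Y.presheaf.stalk (f.base x)) RY)]
    [Hensel.IsStrictHenselization (Y.presheaf.stalk (f.base x)) RY]
    [Algebra (X.presheaf.stalk x) RX] [IsLocalHom (algebraMap (X.presheaf.stalk x) RX)]
    [Hensel.IsStrictHenselization (X.presheaf.stalk x) RX]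
    (ψ : RY →+* RX) [hl : IsLocalHom ψ]
    (hψ : ψ.comp (algebraMap (Y.presheaf.stalk (f.base x)) RY) =
      (algebraMap (X.presheaf.stalk x) RX).comp (f.stalkMap x).hom)
    (hL : ∀ ℓ ∈ L, ℓ.Prime → (ℓ : X.residueField x) ≠ 0) (m : ℕ)
    (Ω : Type u) [Field Ω] [IsSepClosed Ω] (q : Spec (CommRingCat.of Ω) ⟶ Spec (CommRingCat.of RY)) :
    EtAcyc.IsAcyclicSchemeN L m (pullback (Spec.map (CommRingCat.ofHom ψ)) q) := by
  letI : Algebra RY RX := ψ.toAlgebra
  haveI : IsLocalHom (algebraMap RY RX) := hl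
  letI : Algebra RY Ω := (Spec.preimage q).hom.toAlgebra
  have hq : Spec.map (CommRingCat.ofHom (algebraMap RY Ω)) = q := Spec.map_preimage q
  rw [← hq]
  refine isAcyclicSchemeN_of_iso (pullbackSpecIso RY RX Ω) ?_
  have H := hf x RY RX hψ Ω
  obtain ⟨ℓ₀, hℓ₀, hℓk⟩ := exists_prime_ne_zero (X.residueField x)
  obtain ⟨hne, hc⟩ := connected_of_H0_const hℓ₀ (H ℓ₀ hℓk).2.some.toEquiv
  refine ⟨hne, hc, fun ℓ hℓ hℓL q' hq' _ => (H ℓ (hL ℓ hℓL hℓ)).1 q' (by omega)⟩

/-- The geometric fibres of the strict localizations of a locally acyclic morphism are acyclic. -/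
theorem strictFibres_of_isLocallyAcyclic {X Y : Scheme.{u}} (f : X ⟶ Y) (hf : EtRest.IsLocallyAcyclic f)
    (hL : ∀ ℓ ∈ L, ℓ.Prime → ∀ x : X, (ℓ : X.residueField x) ≠ 0) (m : ℕ) : StrictFibres f L m := by
  intro x RY RX _ _ _ _ _ _ _ _ _ _ _ hlh hψ y Ω _ _ _ _
  exact isAcyclicSchemeN_vc f hf x RY RX (algebraMap RY RX) hψ (fun ℓ h hp => hL ℓ h hp x) m Ω _

/-- The comparison of the cohomology of `ℤ/n`. -/
theorem nonempty_H_zmod_equiv {X Y : Scheme.{u}} (g : X ⟶ Y) {n m : ℕ} (hg : EtAcyc.CompN g L m)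
    (hn : EtAcyc.PrimesIn L n) (q : ℕ) (hq : q ≤ m) :
    Nonempty (EtCoh.H Y (EtCoh.const Y (ZMod n)) q ≃+ EtCoh.H X (EtCoh.const X (ZMod n)) q) := by
  have hb := (hg _ (CompBCLib.isLTorsion_of_killedBy hn (PBCLib.killedBy_const Y n))).1 q hq
  exact ⟨(AddEquiv.ofBijective _ hb).trans
    ((EtCoh.HF X q).mapIso (EtCore.pullConst g (ZMod n))).addCommGroupIsoToAddEquiv⟩

/-- A morphism with acyclic geometric fibres and acyclic fibres of strict localizations in all degrees has unit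
isomorphisms and no higher direct images. -/
theorem unit_Rpush_of_geomFibres {X Y : Scheme.{u}} (g : X ⟶ Y) [QuasiCompact g] [QuasiSeparated g]
    (hloc : ∀ m, StrictFibres g L m) (hgf : ∀ m, EtAcyc.GeomFibresAcyclicN L m g) (F : EtCoh.Ab Y)
    (hF : EtAcyc.IsLTorsion L F) :
    IsIso ((EtCoh.pullPushAdj g).unit.app F) ∧
      ∀ q : ℕ, 0 < q → IsZero ((EtCoh.Rpush g q).obj ((EtCoh.pull g).obj F)) := by
  have h : ∀ m, EtAcyc.IsAcyclicN g L m := fun m => isAcyclicN_of_geomFibres g (Nat.le_succ m) (hloc m) (hgf m)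
  refine ⟨AcycCompLib.isIso_unit_of_Hpull g F fun W _ =>
    (h 0 W _ (AcycCompLib.isLTorsion_pull W.hom hF)).1 0 le_rfl, fun q hq => ?_⟩
  exact AcycCompLib.isZero_Rpush_of_surjAt g q _ (fun p _ hp => AcycCompLib.surjAt_of_Hpull g F p fun W _ =>
    ((h q W _ (AcycCompLib.isLTorsion_pull W.hom hF)).1 p hp).2) q hq le_rfl

end Groth.Agent.AcycCritLib
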