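import Groth.Agent.AcycCritLib.ZeroDim
import Groth.Agent.StrictLocLib.FlatBC
import Groth.Agent.CompBCLib.Descent
import Groth.Agent.CompBCLib.Torsion
import Groth.Agent.SmoothBCLib.AffineTest
import Groth.Agent.S1467
import Groth.Agent.EtaleSplit.GeomPoint
import Groth.Agent.ASp.EtLocal

/-!
# Acyclicity from the geometric fibres

A quasi-compact quasi-separated morphism, locally `(n-1)`-acyclic and with `n`-acyclic geometric fibres, is
`n`-acyclic.
-/

set_option autoImplicit false
set_option linter.style.haveILetI false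
set_option linter.unusedSectionVars false
set_option backward.isDefEq.respectTransparency false
set_option backward.isDefEq.respectTransparency.types false
set_option maxHeartbeats 1000000
set_option synthInstance.maxHeartbeats 400000

universe u

open CategoryTheory CategoryTheory.Limits AlgebraicGeometry Opposite IsLocalRing
open Groth.Agent.EtPtsLib Groth.Agent.SmoothBCLib

noncomputable section

namespace Groth.Agent.AcycCritLib

attribute [local instance] Groth.Agent.S0101.result

variable {L : Set ℕ} {n m : ℕ}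

/-- The geometric fibres of all maps of strict localizations are `n`-acyclic. -/
abbrev StrictFibres {X Y : Scheme.{u}} (g : X ⟶ Y) (L : Set ℕ) (n : ℕ) : Prop :=
  EtAcyc.OnStrictLocalizations g (fun _ _ h => EtAcyc.GeomFibresAcyclicN L n h)

theorem strictFibres_of_isLocAcyclicN {X Y : Scheme.{u}} (g : X ⟶ Y) (hL : ∃ ℓ ∈ L, ℓ.Prime)
    (h : EtAcyc.IsLocAcyclicN g L n) : StrictFibres g L n := fun x RY RX _ _ _ _ _ _ _ _ _ _ _ _ hψ =>
  geomFibresAcyclicN_of_isAcyclicN _ hL (h x RY RX hψ)

/-- Precomposition with a weakly étale morphism preserves the condition on strict localizations. -/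
theorem strictFibres_weaklyEtale_comp {X' X Y : Scheme.{u}} (g : X' ⟶ X) [WeaklyEtale g] (f : X ⟶ Y)
    (hf : StrictFibres f L n) : StrictFibres (g ≫ f) L n := by
  intro x RY RX _ _ _ _ _ _ _ _ _ _ _ _ hψ
  letI aX : Algebra (X.presheaf.stalk (g x)) RX :=
    ((algebraMap (X'.presheaf.stalk x) RX).comp (g.stalkMap x).hom).toAlgebra
  obtain ⟨_, _⟩ := (Groth.Agent.S1467.result g).1 ‹WeaklyEtale g› x RX
  letI aY : Algebra (Y.presheaf.stalk (f (g x))) RY := ‹Algebra (Y.presheaf.stalk ((g ≫ f).base x)) RY›
  haveI : IsLocalHom (algebraMap (Y.presheaf.stalk (f (g x))) RY) :=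
    ‹IsLocalHom (algebraMap (Y.presheaf.stalk ((g ≫ f).base x)) RY)›
  haveI : Hensel.IsStrictHenselization (Y.presheaf.stalk (f (g x))) RY :=
    ‹Hensel.IsStrictHenselization (Y.presheaf.stalk ((g ≫ f).base x)) RY›
  refine hf (g x) RY RX ?_
  refine hψ.trans ?_
  rw [Scheme.Hom.stalkMap_comp]
  rfl

/-- The condition descends along a weakly étale postcomposition. -/
theorem strictFibres_of_comp_weaklyEtale {X' Y' Y : Scheme.{u}} (f : X' ⟶ Y') (σ : Y' ⟶ Y) [WeaklyEtale σ]
    (hf : StrictFibres (f ≫ σ) L n) : StrictFibres f L n := by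
  intro x RY RX _ _ _ _ _ _ _ _ _ _ _ _ hψ
  letI aY : Algebra (Y.presheaf.stalk ((f ≫ σ).base x)) RY :=
    ((algebraMap (Y'.presheaf.stalk (f.base x)) RY).comp (σ.stalkMap (f.base x)).hom).toAlgebra
  obtain ⟨hl, hs⟩ := (Groth.Agent.S1467.result σ).1 ‹WeaklyEtale σ› (f.base x) RY
  haveI : IsLocalHom (algebraMap (Y.presheaf.stalk ((f ≫ σ).base x)) RY) := hl
  haveI : Hensel.IsStrictHenselization (Y.presheaf.stalk ((f ≫ σ).base x)) RY := hs
  refine hf x RY RX ?_
  rw [Scheme.Hom.stalkMap_comp, CommRingCat.hom_comp, ← RingHom.comp_assoc, ← hψ, RingHom.comp_assoc]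
  rfl

/-- Fibres of a base change at points algebraic over their images. -/
theorem fibre_acyclic {X Y : Scheme.{u}} (f : X ⟶ Y) (hf : EtAcyc.GeomFibresAcyclicN L n f) {T C : Scheme.{u}}
    (q : T ⟶ Y) (w : C ⟶ T) (c : C ⟶ X) (sq : IsPullback c w f q) (t : T) [IsSepClosed (T.residueField t)]
    (ht : (q.residueFieldMap t).hom.IsIntegral) :
    EtAcyc.IsAcyclicSchemeN L n (pullback w (T.fromSpecResidueField t)) := by
  letI : Algebra (Y.residueField (q t)) (T.residueField t) := (q.residueFieldMap t).hom.toAlgebra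
  haveI : Algebra.IsIntegral (Y.residueField (q t)) (T.residueField t) := ⟨ht⟩
  haveI : Algebra.IsAlgebraic (Y.residueField (q t)) (T.residueField t) := inferInstance
  have e : EtAcyc.geomPt Y (q t) (T.residueField t) = T.fromSpecResidueField t ≫ q :=
    Scheme.Hom.SpecMap_residueFieldMap_fromSpecResidueField q t
  exact isAcyclicSchemeN_of_iso
    (((IsPullback.of_hasPullback w (T.fromSpecResidueField t)).paste_horiz sq).isoPullback ≪≫
      (pullback.congrHom rfl e).symm) (hf (q t) (T.residueField t))

/-- Geometric fibres acyclicity is stable under étale base change. -/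
theorem geomFibres_baseChange {X Y : Scheme.{u}} (f : X ⟶ Y) (hf : EtAcyc.GeomFibresAcyclicN L n f)
    {X' Y' : Scheme.{u}} (f' : X' ⟶ Y') (j : Y' ⟶ Y) (j' : X' ⟶ X) (sq : IsPullback j' f' f j)
    (hj : ∀ y', (j.residueFieldMap y').hom.IsIntegral) : EtAcyc.GeomFibresAcyclicN L n f' := by
  intro y' Ω _ _ iA _
  letI iB : Algebra (Y.residueField (j y')) Ω :=
    ((algebraMap (Y'.residueField y') Ω).comp (j.residueFieldMap y').hom).toAlgebra
  haveI : Algebra.IsIntegral (Y.residueField (j y')) Ω :=
    ⟨RingHom.IsIntegral.trans _ _ (hj y') fun z => (Algebra.IsAlgebraic.isAlgebraic (R := Y'.residueField y') z).isIntegral⟩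
  haveI : Algebra.IsAlgebraic (Y.residueField (j y')) Ω := inferInstance
  have e : EtAcyc.geomPt Y (j y') Ω = EtAcyc.geomPt Y' y' Ω ≫ j := by
    show Spec.map (j.residueFieldMap y' ≫ CommRingCat.ofHom (algebraMap (Y'.residueField y') Ω)) ≫ _ = _
    rw [Spec.map_comp, Category.assoc, Scheme.Hom.SpecMap_residueFieldMap_fromSpecResidueField, Category.assoc]
  exact isAcyclicSchemeN_of_iso
    (((IsPullback.of_hasPullback f' (EtAcyc.geomPt Y' y' Ω)).paste_horiz sq).isoPullback ≪≫
      (pullback.congrHom rfl e).symm) (hf (j y') Ω)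

/-- Points of the base change of an algebraic cover to a strict localization are algebraic over the strict
localization. -/
theorem isIntegral_residueFieldMap_snd {T Y Y₁ : Scheme.{u}} (p : T ⟶ Y) (hT : AlgFields T)
    (halg : ∀ t, (p.residueFieldMap t).hom.IsIntegral) (j : Y₁ ⟶ Y) [WeaklyEtale j] (v : ↥(pullback p j)) :
    AlgFields (pullback p j) ∧ ((pullback.snd p j).residueFieldMap v).hom.IsIntegral := by
  haveI : WeaklyEtale (pullback.fst p j) := MorphismProperty.pullback_fst _ _ ‹_›
  have hV := algFields_of_weaklyEtale hT (pullback.fst p j)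
  refine ⟨hV, ?_⟩
  let t := pullback.fst p j v
  haveI : IsAlgClosed (T.residueField t) := hT.isAlgClosed_residueField t
  have h1 : ((pullback.fst p j).residueFieldMap v).hom.IsIntegral := by
    refine RingHom.isIntegral_of_surjective _ fun y => ?_
    obtain ⟨y, rfl⟩ := (pullback p j).residue_surjective v y
    obtain ⟨x, rfl⟩ := (bijective_stalkMap hT (pullback.fst p j) v).2 y
    exact ⟨T.residue _ x, congrArg (fun g => g.hom x) (Scheme.residue_residueFieldMap _ _)⟩
  have h2 : ((pullback.fst p j ≫ p).residueFieldMap v).hom.IsIntegral := by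
    rw [Scheme.residueFieldMap_comp, CommRingCat.hom_comp]
    exact RingHom.IsIntegral.trans _ _ (halg t) h1
  have h3 := (congrArg (fun f => (f.residueFieldMap v).hom.IsIntegral)
    (pullback.condition (f := p) (g := j))).mp h2
  rw [Scheme.residueFieldMap_comp, CommRingCat.hom_comp] at h3
  exact RingHom.IsIntegral.tower_top (j.residueFieldMap _).hom _ h3

variable {X Y : Scheme.{u}} (g : X ⟶ Y) [QuasiCompact g] [QuasiSeparated g]

/-- The direct image from an algebraic cover, pulled back to a strict localization of the source. -/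
theorem unit_vanish_local (hloc : StrictFibres g L n) {T : Scheme.{u}}
    (p : T ⟶ Y) [QuasiCompact p] [QuasiSeparated p] (hT : AlgFields T)
    (halg : ∀ t, (p.residueFieldMap t).hom.IsIntegral)
    (x : X) (RS : Type u) [CommRing RS] [IsLocalRing RS] [Algebra (Y.presheaf.stalk (g x)) RS]
    [IsLocalHom (algebraMap (Y.presheaf.stalk (g x)) RS)] [Hensel.IsStrictHenselization (Y.presheaf.stalk (g x)) RS]
    (RX : Type u) [CommRing RX] [IsLocalRing RX] [Algebra (X.presheaf.stalk x) RX]
    [IsLocalHom (algebraMap (X.presheaf.stalk x) RX)] [Hensel.IsStrictHenselization (X.presheaf.stalk x) RX]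
    (ψ : RS →+* RX) [IsLocalHom ψ]
    (hψ : ψ.comp (algebraMap (Y.presheaf.stalk (g x)) RS) = (algebraMap (X.presheaf.stalk x) RX).comp (g.stalkMap x).hom)
    {C : Scheme.{u}} (π : C ⟶ pullback p (Hens2.specOf Y (g x) RS)) (c : C ⟶ Spec (CommRingCat.of RX))
    (sq : IsPullback π c (pullback.snd p (Hens2.specOf Y (g x) RS)) (Spec.map (CommRingCat.ofHom ψ))) :
    AlgFields (pullback p (Hens2.specOf Y (g x) RS)) ∧ QuasiCompact π ∧ QuasiSeparated π ∧
      ∀ v, EtAcyc.IsAcyclicSchemeN L n (pullback π ((pullback p (Hens2.specOf Y (g x) RS)).fromSpecResidueField v)) := by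
  haveI := ProEtSLib.weaklyEtale_specOf Y (g x) RS
  haveI : WeaklyEtale (pullback.fst p (Hens2.specOf Y (g x) RS)) := MorphismProperty.pullback_fst _ _ ‹_›
  have hV := algFields_of_weaklyEtale hT (pullback.fst p (Hens2.specOf Y (g x) RS))
  refine ⟨hV, MorphismProperty.of_isPullback sq.flip inferInstance, MorphismProperty.of_isPullback sq.flip inferInstance,
    fun v => ?_⟩
  letI : Algebra RS RX := ψ.toAlgebra
  haveI : IsLocalHom (algebraMap RS RX) := ‹IsLocalHom ψ›
  haveI := hV.isAlgClosed_residueField v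
  exact fibre_acyclic (Spec.map (CommRingCat.ofHom ψ))
    (hloc x RS RX hψ)
    (pullback.snd p (Hens2.specOf Y (g x) RS)) π c sq.flip v
    (isIntegral_residueFieldMap_snd p hT halg (Hens2.specOf Y (g x) RS) v).2

/-- **Acyclicity from the geometric fibres**, affine base. -/
theorem compN_of_geomFibres [IsAffine Y] (hm : m ≤ n + 1) (hloc : StrictFibres g L n)
    (hgf : EtAcyc.GeomFibresAcyclicN L m g) : EtAcyc.CompN g L m := by
  obtain ⟨T, p, hT, hp, hTa, halg⟩ := exists_algCover Y
  haveI := hp
  haveI := hTa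
  haveI : QuasiCompact p := quasiCompact_of_compactSpace p
  haveI : QuasiSeparated p := inferInstance
  let hb := pullback.snd g p
  let pY := pullback.fst g p
  have sq : IsPullback hb pY p g := (IsPullback.of_hasPullback g p).flip
  haveI : QuasiCompact pY := MorphismProperty.of_isPullback sq inferInstance
  haveI : QuasiSeparated pY := MorphismProperty.of_isPullback sq inferInstance
  have hbComp : EtAcyc.CompN hb L m := compN_of_fibres hT hb fun t =>
    haveI := hT.isAlgClosed_residueField t
    fibre_acyclic g hgf p hb pY (IsPullback.of_hasPullback g p) t (halg t)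
  haveI : CompactSpace X := QuasiCompact.compactSpace_of_compactSpace g
  haveI : QuasiSeparatedSpace X := quasiSeparatedSpace_of_quasiSeparated g
  refine CompBCLib.compN_of_cmpAt g fun E hE q => ?_
  obtain ⟨-, N, hN, hk⟩ := hE
  refine CompBCLib.cmpAt_descent g p hb pY sq.w hN hbComp (fun Fb hFb r hr _ => ?_) (fun Fb hFb => ?_) q E hk
  · refine isZero_Rpush_of_strictLoc pY _ _ fun x RX _ _ _ _ _ _ => ?_
    obtain ⟨RS, _, _, _, _, hRS⟩ := Henselization.exists_strictHenselization (Y.presheaf.stalk (g x))
    haveI := hRS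
    obtain ⟨ψ, hl, hψ, hspec⟩ := exists_strictLoc_hom g x RS RX
    haveI := hl
    let εX := Hens2.specOf X x RX
    let εY := Hens2.specOf Y (g x) RS
    let π : pullback pY εX ⟶ pullback p εY :=
      pullback.lift (pullback.fst pY εX ≫ hb) (pullback.snd pY εX ≫ Spec.map (CommRingCat.ofHom ψ)) (by
        rw [Category.assoc, sq.w, ← Category.assoc, pullback.condition, Category.assoc, hspec, Category.assoc])
    have sqπ : IsPullback π (pullback.snd pY εX) (pullback.snd p εY) (Spec.map (CommRingCat.ofHom ψ)) := by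
      refine IsPullback.of_right ?_ (pullback.lift_snd _ _ _) (IsPullback.of_hasPullback p εY)
      rw [pullback.lift_fst]
      refine hspec ▸ (IsPullback.of_hasPullback pY εX).paste_horiz sq
    obtain ⟨hV, hc, hs, hfib⟩ := unit_vanish_local g hloc p hT halg x RS RX ψ hψ π (pullback.snd pY εX) sqπ
    haveI := hc
    haveI := hs
    haveI : CompactSpace ↥(pullback p εY) := QuasiCompact.compactSpace_of_compactSpace (pullback.snd p εY)
    haveI : QuasiSeparatedSpace ↥(pullback p εY) := quasiSeparatedSpace_of_quasiSeparated (pullback.snd p εY)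
    refine (subsingleton_H_pull_pull hb (pullback.fst pY εX) _ rfl Fb _).1
      ((subsingleton_H_pull_pull (pullback.fst p εY) π _ (pullback.lift_fst _ _ _) Fb _).2 ?_)
    exact subsingleton_H_of_fibres hV π hfib _
      (AcycCompLib.isLTorsion_pull _ (CompBCLib.isLTorsion_of_killedBy hN hFb)) (r + 1) (by omega) (by omega)
  · refine StrictLocLib.isIso_baseChange0_of_localUnit p g pY hb sq Fb fun x RS _ _ _ _ _ RX _ _ _ _ _ ψ _ hψ π sqπ => ?_
    obtain ⟨hV, hc, hs, hfib⟩ := unit_vanish_local g hloc p hT halg x RS RX ψ hψ π (pullback.snd pY _) sqπ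
    haveI := hc
    haveI := hs
    exact (unit_vanish_of_fibres hV π hfib _
      (AcycCompLib.isLTorsion_pull _ (CompBCLib.isLTorsion_of_killedBy hN hFb))).1

/-- **A morphism with acyclic geometric fibres which is locally acyclic is acyclic.** -/
theorem isAcyclicN_of_geomFibres (hm : m ≤ n + 1) (hloc : StrictFibres g L n)
    (hgf : EtAcyc.GeomFibresAcyclicN L m g) : EtAcyc.IsAcyclicN g L m := by
  intro V F hF _
  let f := EtAcyc.prj g V
  refine bijective_Hpull_of_affine f F m fun W hW _ q hq => ?_
  haveI := hW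
  haveI : Etale W.hom := W.prop
  haveI : Etale V.hom := V.prop
  let j := W.hom ≫ V.hom
  have sq : IsPullback (pullback.snd W.hom f ≫ pullback.snd V.hom g) (AcycCompLib.fW f W) g j :=
    (AcycCompLib.isPullback_fW f W).paste_horiz (IsPullback.of_hasPullback V.hom g).flip
  haveI : QuasiCompact (AcycCompLib.fW f W) := MorphismProperty.of_isPullback sq ‹QuasiCompact g›
  haveI : QuasiSeparated (AcycCompLib.fW f W) := MorphismProperty.of_isPullback sq ‹QuasiSeparated g›
  have hloc' : StrictFibres (AcycCompLib.fW f W) L n := by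
    haveI : WeaklyEtale (pullback.snd W.hom f ≫ pullback.snd V.hom g) :=
      MorphismProperty.of_isPullback (P := @WeaklyEtale) sq.flip inferInstance
    refine strictFibres_of_comp_weaklyEtale _ j ?_
    rw [← sq.w]
    exact strictFibres_weaklyEtale_comp _ g hloc
  haveI : Etale j := inferInstanceAs (Etale (W.hom ≫ V.hom))
  haveI : LocallyQuasiFinite j := Groth.Agent.ASp.IsEtLocal.etale_le (P := @LocallyQuasiFinite) _ ‹Etale j›
  have hgf' := geomFibres_baseChange g hgf (AcycCompLib.fW f W) j _ sq fun w =>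
    (EtaleSplit.finite_residueFieldMap j w (j.quasiFiniteAt w)).to_isIntegral
  exact (compN_of_geomFibres (AcycCompLib.fW f W) hm hloc' hgf' _ (AcycCompLib.isLTorsion_pull W.hom hF)).1 q hq

end Groth.Agent.AcycCritLib
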