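import Groth.Agent.AcycCritLib.Edge
import Groth.Agent.CompBCLib.Range
import Groth.Agent.PBCLib.LocalSections

/-!
# Classes pulled back from the base, detected on the geometric fibres
-/

set_option autoImplicit false
set_option linter.style.haveILetI false
set_option backward.isDefEq.respectTransparency false
set_option backward.isDefEq.respectTransparency.types false
set_option maxHeartbeats 1000000
set_option synthInstance.maxHeartbeats 400000

universe u

open CategoryTheory CategoryTheory.Limits AlgebraicGeometry Opposite CategoryTheory.Abelian IsLocalRing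
open Groth.Agent.EtPtsLib Groth.Agent.SmoothBCLib

noncomputable section

namespace Groth.Agent.AcycCritLib

attribute [local instance] Groth.Agent.S0101.result

variable {L : Set ℕ} {n : ℕ}

/-- Base change along a morphism with acyclic fibres on strict localizations, for direct images from an algebraic
cover. -/
theorem isIso_bcQ_algCover {X Y T Xb : Scheme.{u}} (g : X ⟶ Y) [QuasiCompact g] [QuasiSeparated g]
    (hloc : StrictFibres g L n) (p : T ⟶ Y) [QuasiCompact p] [QuasiSeparated p] (hT : AlgFields T)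
    (halg : ∀ t, (p.residueFieldMap t).hom.IsIntegral) (hb : Xb ⟶ T) (pY : Xb ⟶ X) (sq : IsPullback hb pY p g)
    (Fb : EtCoh.Ab T) (hFb : EtAcyc.IsLTorsion L Fb) (i : ℕ) (hi : i ≤ n) :
    IsIso (EtBC.bcQ p g pY hb sq.w i Fb) := by
  haveI : QuasiCompact pY := MorphismProperty.of_isPullback sq inferInstance
  haveI : QuasiSeparated pY := MorphismProperty.of_isPullback sq inferInstance
  rcases i with _ | i
  · haveI : PreservesFiniteLimits (EtCoh.push p) :=
      (EtCoh.pullPushAdj p).rightAdjoint_preservesLimits.{0, 0}.preservesFiniteLimits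
    haveI : PreservesFiniteLimits (EtCoh.push pY) :=
      (EtCoh.pullPushAdj pY).rightAdjoint_preservesLimits.{0, 0}.preservesFiniteLimits
    haveI : IsIso (EtCoh.baseChange0 p g pY hb sq.w Fb) := by
      refine StrictLocLib.isIso_baseChange0_of_localUnit p g pY hb sq Fb
        fun x RS _ _ _ _ _ RX _ _ _ _ _ ψ _ hψ π sqπ => ?_
      obtain ⟨hV, hc, hs, hfib⟩ := unit_vanish_local g hloc p hT halg x RS RX ψ hψ π (pullback.snd pY _) sqπ
      haveI := hc
      haveI := hs
      exact (unit_vanish_of_fibres hV π hfib _ (AcycCompLib.isLTorsion_pull _ hFb)).1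
    haveI : IsIso ((EtCoh.pull g).map ((EtCoh.push p).toRightDerivedZero.app Fb) ≫ EtBC.bcQ p g pY hb sq.w 0 Fb) := by
      rw [EtBC.bcQ_zero_compat p g pY hb sq.w Fb]
      infer_instance
    exact IsIso.of_isIso_comp_left ((EtCoh.pull g).map ((EtCoh.push p).toRightDerivedZero.app Fb)) _
  have h1 : IsZero ((EtCoh.Rpush p (i + 1)).obj Fb) := by
    refine isZero_Rpush_of_strictLoc p _ _ fun y RS _ _ _ _ _ _ => ?_
    haveI := ProEtSLib.weaklyEtale_specOf Y y RS
    haveI : WeaklyEtale (pullback.fst p (Hens2.specOf Y y RS)) := MorphismProperty.pullback_fst _ _ ‹_›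
    haveI : CompactSpace ↥(pullback p (Hens2.specOf Y y RS)) :=
      QuasiCompact.compactSpace_of_compactSpace (pullback.snd p _)
    haveI : QuasiSeparatedSpace ↥(pullback p (Hens2.specOf Y y RS)) :=
      quasiSeparatedSpace_of_quasiSeparated (pullback.snd p _)
    exact (algFields_of_weaklyEtale hT (pullback.fst p (Hens2.specOf Y y RS))).subsingleton_H _ _ i.succ_pos
  have h2 : IsZero ((EtCoh.Rpush pY (i + 1)).obj ((EtCoh.pull hb).obj Fb)) := by
    refine isZero_Rpush_of_strictLoc pY _ _ fun x RX _ _ _ _ _ _ => ?_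
    obtain ⟨RS, _, _, _, _, hRS⟩ := Henselization.exists_strictHenselization (Y.presheaf.stalk (g x))
    haveI := hRS
    obtain ⟨ψ, hl, hψ, hspec⟩ := exists_strictLoc_hom g x RS RX
    haveI := hl
    let εX := Hens2.specOf X x RX
    let εY := Hens2.specOf Y (g x) RS
    let π : pullback pY εX ⟶ pullback p εY :=
      pullback.lift (pullback.fst pY εX ≫ hb) (pullback.snd pY εX ≫ Spec.map (CommRingCat.ofHom ψ)) (by
        rw [Category.assoc, sq.w, ← Category.assoc, pullback.condition, Category.assoc, hspec, Category.assoc])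
    have sqπ : IsPullback π (pullback.snd pY εX) (pullback.snd p εY) (Spec.map (CommRingCat.ofHom ψ)) := by
      refine IsPullback.of_right ?_ (pullback.lift_snd _ _ _) (IsPullback.of_hasPullback p εY)
      rw [pullback.lift_fst]
      refine hspec ▸ (IsPullback.of_hasPullback pY εX).paste_horiz sq
    obtain ⟨hV, hc, hs, hfib⟩ := unit_vanish_local g hloc p hT halg x RS RX ψ hψ π (pullback.snd pY εX) sqπ
    haveI := hc
    haveI := hs
    haveI : CompactSpace ↥(pullback p εY) := QuasiCompact.compactSpace_of_compactSpace (pullback.snd p εY)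
    haveI : QuasiSeparatedSpace ↥(pullback p εY) := quasiSeparatedSpace_of_quasiSeparated (pullback.snd p εY)
    refine (subsingleton_H_pull_pull hb (pullback.fst pY εX) _ rfl Fb _).1
      ((subsingleton_H_pull_pull (pullback.fst p εY) π _ (pullback.lift_fst _ _ _) Fb _).2 ?_)
    exact subsingleton_H_of_fibres hV π hfib _ (AcycCompLib.isLTorsion_pull _ hFb) (i + 1) (by omega) hi
  haveI : (EtCoh.pull g).Additive := (EtCoh.pullPushAdj g).left_adjoint_additive
  exact isIso_of_source_target_iso_zero _ ((EtCoh.pull g).map_isZero h1).isoZero h2.isoZero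

variable {X Y : Scheme.{u}} (g : X ⟶ Y) [QuasiCompact g] [QuasiSeparated g]

/-- Affine base: a class vanishing on the geometric fibres comes from the base. -/
theorem mem_range_of_fibres_affine [IsAffine Y] (hloc : StrictFibres g L n) (hh : EtAcyc.CompN g L n)
    (F : EtCoh.Ab Y) (hF : EtAcyc.IsLTorsion L F) (ξ : EtCoh.H X ((EtCoh.pull g).obj F) (n + 1))
    (hξ : ∀ (y : Y) (Ω : Type u) [Field Ω] [IsSepClosed Ω] [Algebra (Y.residueField y) Ω]
        [Algebra.IsAlgebraic (Y.residueField y) Ω],
        EtCore.Hpull (pullback.fst g (EtAcyc.geomPt Y y Ω)) ((EtCoh.pull g).obj F) (n + 1) ξ = 0) :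
    ξ ∈ Set.range (EtCore.Hpull g F (n + 1)) := by
  obtain ⟨T, p, hT, hp, hTa, halg⟩ := exists_algCover Y
  haveI := hp
  haveI := hTa
  haveI : QuasiCompact p := quasiCompact_of_compactSpace p
  haveI : QuasiSeparated p := inferInstance
  let hb := pullback.snd g p
  let pY := pullback.fst g p
  have sq : IsPullback hb pY p g := (IsPullback.of_hasPullback g p).flip
  haveI : QuasiCompact pY := MorphismProperty.of_isPullback sq inferInstance
  haveI : QuasiSeparated pY := MorphismProperty.of_isPullback sq inferInstance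
  haveI : QuasiCompact hb := MorphismProperty.pullback_snd _ _ ‹_›
  haveI : QuasiSeparated hb := MorphismProperty.pullback_snd _ _ ‹_›
  haveI : CompactSpace X := QuasiCompact.compactSpace_of_compactSpace g
  haveI : QuasiSeparatedSpace X := quasiSeparatedSpace_of_quasiSeparated g
  haveI : CompactSpace ↥(pullback g p) := QuasiCompact.compactSpace_of_compactSpace hb
  haveI : QuasiSeparatedSpace ↥(pullback g p) := quasiSeparatedSpace_of_quasiSeparated hb
  refine (CompBCLib.mem_range_iff g p hb pY sq.w hh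
    (fun Fb hFb i hi => isIso_bcQ_algCover g hloc p hT halg hb pY sq Fb hFb i hi) F hF ξ).2 ⟨0, ?_⟩
  have h0 : EtCore.Hpull pY ((EtCoh.pull g).obj F) (n + 1) ξ = 0 := by
    refine eq_zero_of_fibres hT hb _ fun t => ?_
    haveI := hT.isAlgClosed_residueField t
    letI : Algebra (Y.residueField (p t)) (T.residueField t) := (p.residueFieldMap t).hom.toAlgebra
    haveI : Algebra.IsIntegral (Y.residueField (p t)) (T.residueField t) := ⟨halg t⟩
    let η := T.fromSpecResidueField t
    let m : pullback hb η ⟶ pullback g (EtAcyc.geomPt Y (p t) (T.residueField t)) :=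
      pullback.lift (pullback.fst hb η ≫ pY) (pullback.snd hb η) (by
        rw [Category.assoc, ← sq.w, ← Category.assoc, pullback.condition, Category.assoc,
          ← Scheme.Hom.SpecMap_residueFieldMap_fromSpecResidueField]
        rfl)
    refine (KPi1Lib.Hpull_comp_eq_zero pY (pullback.fst hb η) (pullback.fst hb η ≫ pY) rfl _ _ ξ).1 ?_
    refine (KPi1Lib.Hpull_comp_eq_zero (pullback.fst g _) m _ (pullback.lift_fst _ _ _) _ _ ξ).2 ?_
    rw [hξ (p t) (T.residueField t), map_zero]
  rw [map_zero, CompBCLib.HpullVia_eq, h0, map_zero]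

/-- **A class lies in the image of pullback as soon as it vanishes on the geometric fibres.** -/
theorem mem_range_of_geomFibres (hglob : EtAcyc.IsAcyclicN g L n) (hloc : StrictFibres g L n)
    (F : EtCoh.Ab Y) (hF : EtAcyc.IsLTorsion L F) (ξ : EtCoh.H X ((EtCoh.pull g).obj F) (n + 1))
    (hξ : ∀ (y : Y) (Ω : Type u) [Field Ω] [IsSepClosed Ω] [Algebra (Y.residueField y) Ω]
        [Algebra.IsAlgebraic (Y.residueField y) Ω],
        EtCore.Hpull (pullback.fst g (EtAcyc.geomPt Y y Ω)) ((EtCoh.pull g).obj F) (n + 1) ξ = 0) :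
    ξ ∈ Set.range (EtCore.Hpull g F (n + 1)) := by
  haveI hu : IsIso ((EtCoh.pullPushAdj g).unit.app F) := AcycCompLib.isIso_unit_of_Hpull g F fun W _ =>
    (hglob W _ (AcycCompLib.isLTorsion_pull W.hom hF)).1 0 (Nat.zero_le n)
  have hR := AcycCompLib.isZero_Rpush_of_surjAt g n _ fun q _ hq =>
    AcycCompLib.surjAt_of_Hpull g F q fun W _ => ((hglob W _ (AcycCompLib.isLTorsion_pull W.hom hF)).1 q hq).2
  have hz : LocZero g ξ := by
    intro Ω _ _ ξ₀
    obtain ⟨O, hO, hy, -⟩ := exists_isAffineOpen_mem_and_subset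
      (show ξ₀ default ∈ (⊤ : Y.Opens) from trivial)
    obtain ⟨ζ₀, hζ₀⟩ := exists_comp_eq O.ι ξ₀ (by rw [Scheme.Opens.range_ι]; exact hy)
    let V : Y.Etale := MorphismProperty.Over.mk ⊤ O.ι (inferInstance : Etale O.ι)
    haveI : IsAffine V.left := hO
    haveI : Etale V.hom := V.prop
    haveI : LocallyQuasiFinite V.hom := Groth.Agent.ASp.IsEtLocal.etale_le (P := @LocallyQuasiFinite) _ ‹Etale V.hom›
    let fV := AcycCompLib.fW g V
    let sV := pullback.snd V.hom g
    have sqV : IsPullback sV fV g V.hom := AcycCompLib.isPullback_fW g V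
    haveI : QuasiCompact fV := MorphismProperty.of_isPullback sqV ‹QuasiCompact g›
    haveI : QuasiSeparated fV := MorphismProperty.of_isPullback sqV ‹QuasiSeparated g›
    have hlocV : StrictFibres fV L n := by
      haveI : WeaklyEtale sV := MorphismProperty.of_isPullback (P := @WeaklyEtale) sqV.flip inferInstance
      refine strictFibres_of_comp_weaklyEtale fV V.hom ?_
      rw [← sqV.w]
      exact strictFibres_weaklyEtale_comp sV g hloc
    obtain ⟨σ, -⟩ := AcycCompLib.exists_pull_unit_baseChange0 g V.hom fV sV sqV.w F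
    let ξV := Sheaf.H.map σ.inv (n + 1) (EtCore.Hpull sV _ (n + 1) ξ)
    obtain ⟨x, hx⟩ := mem_range_of_fibres_affine fV hlocV (hglob V) _ (AcycCompLib.isLTorsion_pull V.hom hF) ξV
      fun v Ω' _ _ iA _ => by
        letI iB : Algebra (Y.residueField (V.hom v)) Ω' :=
          ((algebraMap (V.left.residueField v) Ω').comp (V.hom.residueFieldMap v).hom).toAlgebra
        haveI : Algebra.IsIntegral (Y.residueField (V.hom v)) Ω' :=
          ⟨RingHom.IsIntegral.trans _ _ (EtaleSplit.finite_residueFieldMap V.hom v (V.hom.quasiFiniteAt v)).to_isIntegral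
            (Algebra.IsIntegral.isIntegral (R := V.left.residueField v) (A := Ω'))⟩
        have e : EtAcyc.geomPt V.left v Ω' ≫ V.hom = EtAcyc.geomPt Y (V.hom v) Ω' := by
          show (Spec.map _ ≫ _) ≫ V.hom = Spec.map (CommRingCat.ofHom (RingHom.comp _ _)) ≫ _
          rw [CommRingCat.ofHom_comp, Spec.map_comp, Category.assoc, Category.assoc]
          exact congrArg (Spec.map _ ≫ ·) (Scheme.Hom.SpecMap_residueFieldMap_fromSpecResidueField V.hom v).symm
        let m : pullback fV (EtAcyc.geomPt V.left v Ω') ⟶ pullback g (EtAcyc.geomPt Y (V.hom v) Ω') :=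
          pullback.lift (pullback.fst fV _ ≫ sV) (pullback.snd fV _) (by
            rw [Category.assoc, sqV.w, ← Category.assoc, pullback.condition, Category.assoc, e])
        show EtCore.Hpull _ _ _ (Sheaf.H.map σ.inv (n + 1) _) = 0
        rw [CompBCLib.Hpull_map _ σ.inv]
        have h0 := (KPi1Lib.Hpull_comp_eq_zero sV (pullback.fst fV (EtAcyc.geomPt V.left v Ω')) _ rfl _ _ ξ).1
          ((KPi1Lib.Hpull_comp_eq_zero (pullback.fst g _) m _ (pullback.lift_fst _ _ _) _ _ ξ).2
            (by rw [hξ (V.hom v) Ω', map_zero]))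
        rw [h0, map_zero]
    obtain ⟨W, hW, v, hv, hw⟩ := PBCLib.exists_local_zero ζ₀ n x
    haveI : Etale W.hom := W.prop
    let f' := AcycCompLib.fW fV W
    let s' := pullback.snd W.hom fV
    have sq' : IsPullback (s' ≫ sV) f' g (W.hom ≫ V.hom) := (AcycCompLib.isPullback_fW fV W).paste_horiz sqV
    haveI : Etale (W.hom ≫ V.hom) := inferInstance
    haveI : Etale (s' ≫ sV) := MorphismProperty.of_isPullback (P := @Etale) sq'.flip ‹_›
    refine ⟨W.left, _, W.hom ≫ V.hom, f', s' ≫ sV, sq'.w, v, ?_,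
      fun G => BCVertLib.isIso_baseChange0_etale g _ f' (s' ≫ sV) sq' G, fun I _ k => ?_, ?_⟩
    · exact (Category.assoc _ _ _).symm.trans ((congrArg (· ≫ V.hom) hv).trans hζ₀)
    · haveI := BCVertLib.injective_pull_etale (s' ≫ sV) I
      exact subsingleton_of_forall_eq 0 fun y => Ext.eq_zero_of_injective y
    refine (KPi1Lib.Hpull_comp_eq_zero sV s' _ rfl _ _ ξ).2 ?_
    have hb : EtCore.Hpull sV _ (n + 1) ξ = Sheaf.H.map σ.hom (n + 1) ξV := by
      rw [CompBCLib.H_map_map, Iso.inv_hom_id, CompBCLib.H_map_id]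
    rw [hb, CompBCLib.Hpull_map s' σ.hom, ← hx]
    have h1 : EtCore.Hpull s' _ (n + 1) (EtCore.Hpull fV _ (n + 1) x) = 0 := by
      refine (KPi1Lib.Hpull_comp_eq_zero fV s' (f' ≫ W.hom) (AcycCompLib.isPullback_fW fV W).w _ _ x).1 ?_
      refine (KPi1Lib.Hpull_comp_eq_zero W.hom f' _ rfl _ _ x).2 ?_
      rw [hw, map_zero]
    exact (congrArg (Sheaf.H.map _ (n + 1)) h1).trans (map_zero _)
  obtain ⟨x, hx⟩ := mem_range_of_locZero g n _ hR ξ hz
  refine ⟨Sheaf.H.map (inv ((EtCoh.pullPushAdj g).unit.app F)) (n + 1) x, ?_⟩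
  rw [AcycCompLib.Hpull_eq_HofPush_unit, CompBCLib.H_map_map, IsIso.inv_hom_id]
  exact (congrArg (EtLim.HofPush g _ (n + 1)) (CompBCLib.H_map_id _ x)).trans hx

end Groth.Agent.AcycCritLib
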