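import Groth.Agent.AcycCritLib.AlgCover
import Groth.Agent.SmoothBCLib.LocAcycFibre
import Groth.Agent.WLocalLib.Olivier
import Groth.Agent.FLCLib.Filtration

/-!
# Morphisms to schemes with algebraically closed local rings, with acyclic fibres
-/

set_option autoImplicit false
set_option linter.style.haveILetI false
set_option backward.isDefEq.respectTransparency false
set_option backward.isDefEq.respectTransparency.types false
set_option maxHeartbeats 1000000
set_option synthInstance.maxHeartbeats 400000

universe u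

open CategoryTheory CategoryTheory.Limits AlgebraicGeometry Opposite IsLocalRing
open Groth.Agent.EtPtsLib Groth.Agent.SmoothBCLib

noncomputable section

namespace Groth.Agent.AcycCritLib

attribute [local instance] Groth.Agent.S0101.result

/-- Stalk maps of weakly étale morphisms to schemes with algebraically closed local rings are bijective. -/
theorem bijective_stalkMap {T V : Scheme.{u}} (hT : AlgFields T) (f : V ⟶ T) [WeaklyEtale f] (v : V) :
    Function.Bijective (f.stalkMap v) := by
  obtain ⟨R, _, _, _, _, hR⟩ := Henselization.exists_strictHenselization (V.presheaf.stalk v)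
  haveI := hR
  obtain ⟨hloc, hTR⟩ := (S1467.result f).1 inferInstance v R
  letI : Algebra (T.presheaf.stalk (f v)) R :=
    ((algebraMap (V.presheaf.stalk v) R).comp (f.stalkMap v).hom).toAlgebra
  haveI := hloc
  haveI := hTR
  haveI := ProEtLib2.weaklyEtale_of_isIndEtale (S12237.result (T.presheaf.stalk (f v)) R)
  have hb : Function.Bijective ((algebraMap (V.presheaf.stalk v) R).comp (f.stalkMap v).hom) := by
    haveI := (hT.isStrictlyHenselian_stalk (f v)).2
    letI : Field (T.presheaf.stalk (f v)) := (hT.isField (f v)).toField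
    haveI : IsAlgClosed (T.presheaf.stalk (f v)) := AICCover.MonicRoot.isAlgClosed (hT.monicRoot (f v))
    exact WLocalLib.algebraMap_bijective_of_isSepClosed
  haveI : Module.Flat (V.presheaf.stalk v) R :=
    ProEtLib2.flat_of_isIndEtale (S12237.result (V.presheaf.stalk v) R)
  haveI : Module.FaithfullyFlat (V.presheaf.stalk v) R := Module.FaithfullyFlat.of_flat_of_isLocalHom
  have hinj : Function.Injective (algebraMap (V.presheaf.stalk v) R) := FaithfulSMul.algebraMap_injective _ _
  exact ⟨Function.Injective.of_comp hb.1, Function.Surjective.of_comp_left hb.2 hinj⟩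

/-- Schemes weakly étale over one with algebraically closed local rings have them. -/
theorem algFields_of_weaklyEtale {T V : Scheme.{u}} (hT : AlgFields T) (f : V ⟶ T) [WeaklyEtale f] :
    AlgFields V := by
  have key := bijective_stalkMap hT f
  refine ⟨fun v => ?_, fun v => ?_⟩
  · let e := RingEquiv.ofBijective (f.stalkMap v).hom (key v)
    intro p hp hd
    obtain ⟨r, hr⟩ := hT.monicRoot (f v) (p.map e.symm.toRingHom) (hp.map _) (by rwa [hp.natDegree_map])
    refine ⟨e r, ?_⟩
    have := hr.map (f := e.toRingHom)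
    rwa [Polynomial.map_map, show e.toRingHom.comp e.symm.toRingHom = RingHom.id _ from
      RingHom.ext fun x => e.apply_symm_apply x, Polynomial.map_id] at this
  · exact MulEquiv.isField (hT.isField (f v)) (RingEquiv.ofBijective (f.stalkMap v).hom (key v)).symm.toMulEquiv

/-- Acyclicity of schemes is invariant under isomorphisms. -/
theorem isAcyclicSchemeN_of_iso {X X' : Scheme.{u}} (e : X' ≅ X) {L : Set ℕ} {n : ℕ}
    (h : EtAcyc.IsAcyclicSchemeN L n X) : EtAcyc.IsAcyclicSchemeN L n X' := by
  obtain ⟨⟨x⟩, hc, hv⟩ := h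
  haveI := hc
  refine ⟨⟨e.inv x⟩, e.inv.homeomorph.surjective.connectedSpace e.inv.continuous, fun ℓ hℓ hℓL q hq hqn => ?_⟩
  haveI := hv ℓ hℓ hℓL q hq hqn
  have h1 : Subsingleton (EtCoh.H X' ((EtCoh.pull e.hom).obj (EtCoh.const X (ZMod ℓ))) q) :=
    (AcycCompLib.bijective_Hpull_of_isIso e.hom (EtCoh.const X (ZMod ℓ)) q).2.subsingleton
  exact CdFieldLib.subsingleton_H_of_iso' (EtCore.pullConst e.hom (ZMod ℓ)).symm q h1

/-- Sheaves on the spectrum of a strictly henselian field are constant. -/
theorem locConst_field {R : Type u} [CommRing R] [HenselianLocalRing R] [IsSepClosed (ResidueField R)]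
    (hf : IsField R) (F : EtCoh.Ab (Spec (CommRingCat.of R))) : FLCLib.LocConst (fun _ => True) F := by
  letI : Field R := hf.toField
  intro x
  refine ⟨EtCoh.top _, F.obj.obj (op (EtCoh.top _)), 𝟙 _, ⟨x, rfl⟩, trivial, fun Ω _ _ ξ l => ?_⟩
  have hsub : Subsingleton ↥(Spec (CommRingCat.of R)) := inferInstanceAs (Subsingleton (PrimeSpectrum R))
  have hex : ∀ (U : (Spec (CommRingCat.of R)).Etale) (m : (Scheme.pointSmallEtale ξ).fiber.obj U),
      ∃ g : EtCoh.top (Spec (CommRingCat.of R)) ⟶ U, g.left (liftHom ξ l default) = liftHom ξ m default := fun U m => by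
    haveI : Etale U.hom := U.prop
    obtain ⟨s, hs, hsu⟩ := Groth.Agent.Hensel.exists_section_of_etale U.hom (liftHom ξ m default)
      (@Subsingleton.elim _ hsub _ _)
    refine ⟨MorphismProperty.Over.homMk s hs, ?_⟩
    show s (liftHom ξ l default) = _
    rw [show liftHom ξ l default = closedPoint R from @Subsingleton.elim _ hsub _ _]
    exact hsu
  exact germ_top_bijective ξ l hex F.obj

variable {L : Set ℕ} {n : ℕ}

/-- Over a scheme with algebraically closed local rings, a morphism with `n`-acyclic fibres has unit isomorphisms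
and no direct images up to `n` for `L`-torsion sheaves. -/
theorem unit_vanish_of_fibres {T C : Scheme.{u}} (hT : AlgFields T) (w : C ⟶ T) [QuasiCompact w] [QuasiSeparated w]
    (hfib : ∀ t : T, EtAcyc.IsAcyclicSchemeN L n (pullback w (T.fromSpecResidueField t))) (N : EtCoh.Ab T)
    (hN : EtAcyc.IsLTorsion L N) :
    IsIso ((EtCoh.pullPushAdj w).unit.app N) ∧
      ∀ q : ℕ, 1 ≤ q → q ≤ n → IsZero ((EtCoh.Rpush w q).obj ((EtCoh.pull w).obj N)) := by
  have main : ∀ (Ω : Type u) [Field Ω] [IsSepClosed Ω] (ξ : Spec (CommRingCat.of Ω) ⟶ T),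
      Function.Bijective ((EtCoh.stalk ξ).map ((EtCoh.pullPushAdj w).unit.app N)) ∧
        ∀ q : ℕ, 1 ≤ q → q ≤ n →
          IsZero ((EtCoh.stalk ξ).obj ((EtCoh.Rpush w q).obj ((EtCoh.pull w).obj N))) := by
    intro Ω _ _ ξ
    let t := ξ default
    obtain ⟨hh, hs⟩ := hT.isStrictlyHenselian_stalk t
    haveI := hh
    haveI : IsSepClosed (ResidueField (T.presheaf.stalk t)) := hs
    haveI : Hensel.IsStrictHenselization (T.presheaf.stalk t) (T.presheaf.stalk t) :=
      SHTensor.isStrictHenselization_self _
    let η := Hens2.specOf T t (T.presheaf.stalk t)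
    haveI : IsIso (T.residue t) := (ConcreteCategory.isIso_iff_bijective _).2 (by
      letI : Field (T.presheaf.stalk t) := (hT.isField t).toField
      exact ⟨RingHom.injective _, T.residue_surjective t⟩)
    have hη : η = (inv (Spec.map (T.residue t))) ≫ T.fromSpecResidueField t := by
      rw [IsIso.eq_inv_comp]
      show Spec.map _ ≫ Spec.map _ ≫ _ = _
      rw [← Category.assoc, ← Spec.map_comp]
      rfl
    haveI : CompactSpace ↥(pullback w η) := QuasiCompact.compactSpace_of_compactSpace (pullback.snd w η)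
    haveI : QuasiSeparatedSpace ↥(pullback w η) := quasiSeparatedSpace_of_quasiSeparated (pullback.snd w η)
    let e : pullback w η ≅ pullback w (T.fromSpecResidueField t) :=
      asIso (pullback.map w η w (T.fromSpecResidueField t) (𝟙 C) (inv (Spec.map (T.residue t))) (𝟙 T)
        (by simp) (by rw [Category.comp_id, hη]))
    refine stalks_of_bijective_Hpull w N t (T.presheaf.stalk t) (fun q hq => ?_) ξ rfl
    exact (bijective_Hpull_locConst_L (T.presheaf.stalk t) (pullback.snd w η)
      (fun _ => isAcyclicSchemeN_of_iso e (hfib t)) ((EtCoh.pull η).obj N)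
      (locConst_field (hT.isField t) _) (AcycCompLib.isLTorsion_pull η hN)).1 q hq
  exact ⟨FLCLib.isIso_of_stalk _ fun Ω _ _ ξ => (ConcreteCategory.isIso_iff_bijective _).2 (main Ω ξ).1,
    fun q h1 h2 => (EtPtsLib.isZero_iff_ab _).2 fun Ω _ _ ξ => (main Ω ξ).2 q h1 h2⟩

/-- Hence the comparison of cohomology. -/
theorem compN_of_fibres {T C : Scheme.{u}} (hT : AlgFields T) (w : C ⟶ T) [QuasiCompact w] [QuasiSeparated w]
    (hfib : ∀ t : T, EtAcyc.IsAcyclicSchemeN L n (pullback w (T.fromSpecResidueField t))) :
    EtAcyc.CompN w L n := by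
  intro F hF _
  obtain ⟨hu, hR⟩ := unit_vanish_of_fibres hT w hfib F hF
  exact ⟨fun q hq => (AcycCompLib.bijective_Hpull_of_unit w q F n hu hR).1 hq,
    (AcycCompLib.bijective_Hpull_of_unit w (n + 1) F n hu hR).2 le_rfl⟩

/-- Hence vanishing of cohomology. -/
theorem subsingleton_H_of_fibres {T C : Scheme.{u}} (hT : AlgFields T) [CompactSpace T] [QuasiSeparatedSpace T]
    (w : C ⟶ T) [QuasiCompact w] [QuasiSeparated w]
    (hfib : ∀ t : T, EtAcyc.IsAcyclicSchemeN L n (pullback w (T.fromSpecResidueField t))) (N : EtCoh.Ab T)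
    (hN : EtAcyc.IsLTorsion L N) (q : ℕ) (hq : 1 ≤ q) (hqn : q ≤ n) :
    Subsingleton (EtCoh.H C ((EtCoh.pull w).obj N) q) := by
  have hb := (compN_of_fibres hT w hfib N hN).1 q hqn
  haveI := hT.subsingleton_H N q hq
  exact hb.2.subsingleton

end Groth.Agent.AcycCritLib
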